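import Groth.Agent.DCat.TotExact
import Mathlib.Algebra.Homology.HomotopyCategory.SingleFunctors

/-!
# Total complexes against an object in degree zero
-/

set_option autoImplicit false
set_option backward.isDefEq.respectTransparency false

universe v₁ v₂ v₃ u₁ u₂ u₃

open CategoryTheory CategoryTheory.Limits HomologicalComplex
open Groth.Agent.DCat

namespace Groth.Agent.SiteTen

variable {A : Type u₁} [Category.{v₁} A] [Preadditive A] {B : Type u₂} [Category.{v₂} B] [Preadditive B]
  [HasZeroObject B] {D : Type u₃} [Category.{v₃} D] [Abelian D]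
  (T : A ⥤ B ⥤ D) [T.Additive] [∀ a, (T.obj a).Additive]
  [∀ (K₁ : CochainComplex A ℤ) (K₂ : CochainComplex B ℤ), CochainComplex.HasMapBifunctor K₁ K₂ T]
  (M : B)

/-- `F` against `M`, degreewise, into the total complex. -/
noncomputable def totSingleHom (F : CochainComplex A ℤ) (n : ℤ) :
    (T.obj (F.X n)).obj M ⟶ (tot T F ((HomologicalComplex.single B (ComplexShape.up ℤ) 0).obj M)).X n :=
  (T.obj (F.X n)).map (singleObjXSelf (ComplexShape.up ℤ) 0 M).inv ≫
    ιMapBifunctor F ((HomologicalComplex.single B (ComplexShape.up ℤ) 0).obj M) T (ComplexShape.up ℤ)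
      n 0 n (by simp)

/-- The total complex of `F` and an object in degree zero. -/
noncomputable def totSingle (F : CochainComplex A ℤ) :
    ((T.flip.obj M).mapHomologicalComplex (ComplexShape.up ℤ)).obj F ⟶
      tot T F ((HomologicalComplex.single B (ComplexShape.up ℤ) 0).obj M) where
  f n := totSingleHom T M F n
  comm' i j hij := by
    dsimp [totSingleHom]
    simp only [Category.assoc, mapBifunctor.d_eq, Preadditive.comp_add, mapBifunctor.ι_D₁, mapBifunctor.ι_D₂]
    rw [mapBifunctor.d₁_eq _ _ _ _ hij _ _ (by simpa using hij), mapBifunctor.d₂_eq _ _ _ _ _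
      (show (ComplexShape.up ℤ).Rel 0 1 by simp) _ (by simp at hij ⊢; omega),
      single_obj_d (ComplexShape.up ℤ) 0 M 0 1]
    simp [(T.map (F.d i j)).naturality_assoc]

lemma totSingle_natural {F G : CochainComplex A ℤ} (f : F ⟶ G) :
    ((T.flip.obj M).mapHomologicalComplex (ComplexShape.up ℤ)).map f ≫ totSingle T M G =
      totSingle T M F ≫ totMap₁ T f ((HomologicalComplex.single B (ComplexShape.up ℤ) 0).obj M) := by
  refine HomologicalComplex.hom_ext _ _ fun n => ?_
  dsimp [totSingle, totSingleHom]
  simp only [Category.assoc, ι_mapBifunctorMap, id_f, CategoryTheory.Functor.map_id, Category.id_comp]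
  exact ((NatTrans.naturality_assoc (T.map (f.f n)) _ _)).symm

instance isIso_totSingle (F : CochainComplex A ℤ) : IsIso (totSingle T M F) := by
  classical
  haveI : ∀ n, IsIso ((totSingle T M F).f n) := fun n => by
    let e := singleObjXSelf (ComplexShape.up ℤ) 0 M
    let S := (HomologicalComplex.single B (ComplexShape.up ℤ) 0).obj M
    refine ⟨mapBifunctorDesc (fun p q h => if hq : q = 0 then
      (T.map (F.XIsoOfEq (show p = n by subst hq; simpa using h)).hom).app (S.X q) ≫
        (T.obj (F.X n)).map ((S.XIsoOfEq hq).hom ≫ e.hom) else 0), ?_, ?_⟩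
    · change ((T.obj (F.X n)).map e.inv ≫ ιMapBifunctor F S T (ComplexShape.up ℤ) n 0 n (by simp)) ≫ _ = _
      simp only [e, Category.assoc, ι_mapBifunctorDesc, dif_pos, XIsoOfEq_rfl, Iso.refl_hom,
        CategoryTheory.Functor.map_id, NatTrans.id_app, Category.id_comp]
      rw [Category.id_comp, ← Functor.map_comp, Iso.inv_hom_id, CategoryTheory.Functor.map_id]
      rfl
    · refine mapBifunctor.hom_ext fun p q h => ?_
      change ιMapBifunctor F S T (ComplexShape.up ℤ) p q n h ≫ _ ≫
        ((T.obj (F.X n)).map e.inv ≫ ιMapBifunctor F S T (ComplexShape.up ℤ) n 0 n (by simp)) =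
          ιMapBifunctor F S T (ComplexShape.up ℤ) p q n h ≫ 𝟙 _
      rw [ι_mapBifunctorDesc_assoc, Category.comp_id]
      by_cases hq : q = 0
      · subst hq
        obtain rfl : p = n := by simpa using h
        simp [e, S, ← Functor.map_comp_assoc]
      · exact IsZero.eq_of_src
          ((T.obj _).map_isZero (isZero_single_obj_X (ComplexShape.up ℤ) 0 M q hq)) _ _
  exact HomologicalComplex.Hom.isIso_of_components _

end Groth.Agent.SiteTen
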