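import Groth.Agent.SiteTen.FlatMore
import Groth.Agent.DCat.KFlatQis
import Groth.Agent.DCat.TotMap
import Groth.Agent.DCat.ZeroD

/-!
# K-flat complexes on a ringed site
-/

set_option autoImplicit false
set_option backward.isDefEq.respectTransparency false

universe u

open CategoryTheory CategoryTheory.Limits Opposite MonoidalCategory HomologicalComplex
open Groth.Agent.DCat

namespace Groth.Agent.SiteTen

variable {C : Type u} [SmallCategory C] {J : GrothendieckTopology C} {O : Sheaf J CommRingCat.{u}}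

/-- The tensor bifunctor. -/
noncomputable abbrev tT (O : Sheaf J CommRingCat.{u}) : ModSite.Mod O ⥤ ModSite.Mod O ⥤ ModSite.Mod O :=
  ModSite.tensorBi O

lemma isKFlat_iff (K : CochainComplex (ModSite.Mod O) ℤ) :
    ModSite.IsKFlat K ↔ IsKFlatFor (tT O) K := by
  constructor
  · exact fun h M hM i => (exactAt_iff_isZero_homology _ _).2
      (h M (fun j => (exactAt_iff_isZero_homology _ _).1 (hM j)) i)
  · exact fun h M hM i => (exactAt_iff_isZero_homology _ _).1
      (h M (fun j => (exactAt_iff_isZero_homology _ _).2 (hM j)) i)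

instance preservesNat (X : ModSite.Mod O) : PreservesColimitsOfShape ℕ ((tT O).obj X) :=
  preservesColimitsOfShape_of_equiv (ULiftHomULiftCategory.equiv.{u, u} ℕ).symm _

instance hasExactNat : HasExactColimitsOfShape ℕ (ModSite.Mod O) :=
  HasExactColimitsOfShape.of_domain_equivalence _ (ULiftHomULiftCategory.equiv.{u, u} ℕ).symm

instance additive_tT_flip : (tT O).flip.Additive where
  map_add {X Y f g} := NatTrans.ext (funext fun A => ((tT O).obj A).map_add)

instance hasMapBifunctor_flip (F G : CochainComplex (ModSite.Mod O) ℤ) :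
    HomologicalComplex.HasMapBifunctor F G (tT O).flip (ComplexShape.up ℤ) := fun _ => inferInstance

/-- The tensor product commutes with itself, in both variables. -/
noncomputable def braidObj (A B : ModSite.Mod O) : ((tT O).obj A).obj B ≅ ((tT O).flip.obj A).obj B :=
  ((tenFlipIso A).app B).symm

lemma braidObj_left {A A' : ModSite.Mod O} (f : A ⟶ A') (B : ModSite.Mod O) :
    ((tT O).map f).app B ≫ (braidObj A' B).hom =
      (braidObj A B).hom ≫ ((tT O).flip.map f).app B := by
  refine ((ModSite.shPre O).map_comp _ _).symm.trans ((congrArg (ModSite.shPre O).map ?_).trans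
    ((ModSite.shPre O).map_comp _ _))
  exact (BraidedCategory.braiding_inv_naturality_left ((ModSite.toPre O).map f)
    ((ModSite.toPre O).obj B))

lemma braidObj_right (A : ModSite.Mod O) {B B' : ModSite.Mod O} (g : B ⟶ B') :
    ((tT O).obj A).map g ≫ (braidObj A B').hom =
      (braidObj A B).hom ≫ ((tT O).flip.obj A).map g :=
  (tenFlipIso A).inv.naturality g

/-- Symmetry of the tensor product of complexes. -/
noncomputable def totSymm (M K : CochainComplex (ModSite.Mod O) ℤ) :
    tot (tT O) M K ≅ tot (tT O) K M :=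
  (mapTotIso (tT O) ((tT O).flip) (𝟭 _) (𝟭 _) (𝟭 _) (fun a b => braidObj a b)
    (fun f b => braidObj_left f b) (fun a _ _ g => braidObj_right a g) M K :) ≪≫
    mapBifunctorFlipIso K M (tT O) (ComplexShape.up ℤ)

/-- Complexes with zero differentials and flat terms are K-flat. -/
theorem isKFlatFor_zeroD (U : ℤ → ModSite.Mod O) (h : ∀ n, ModSite.IsFlat (U n)) :
    IsKFlatFor (tT O) (zeroD U) := by
  refine IsKFlatFor.colimit (c := winCocone U)
    (fun a q => isColimitOfPreserves ((tT O).obj a) (isColimitWinEval U q)) fun k => ?_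
  refine isKFlatFor_of_boundedAbove (zeroD (winX U k)) k (fun n hn => isZero_winX U (by omega))
    fun n => ?_
  by_cases hn : n.natAbs ≤ k
  · haveI := isIso_winι U hn
    exact isFlat_of_iso (asIso (winι U k n)).symm (h n)
  · exact isFlat_of_preservesMono fun X Y f _ => by
      have hz : ∀ A : ModSite.Mod O, IsZero (((ModSite.tensorBi O).flip.obj (winX U k n)).obj A) :=
        fun A => ((ModSite.tensorBi O).obj A).map_isZero (isZero_winX U hn)
      exact ⟨fun a b _ => (hz X).eq_of_tgt a b⟩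

/-- Sequential colimits of K-flat complexes are K-flat. -/
theorem isKFlatFor_colimit {F : ℕ ⥤ CochainComplex (ModSite.Mod O) ℤ} {c : Cocone F} (hc : IsColimit c)
    (h : ∀ j, IsKFlatFor (tT O) (F.obj j)) : IsKFlatFor (tT O) c.pt :=
  IsKFlatFor.colimit (fun a q => isColimitOfPreserves ((tT O).obj a)
    (isColimitOfPreserves (HomologicalComplex.eval _ (ComplexShape.up ℤ) q) hc)) h

/-- Bounded above complexes of flat modules are K-flat. -/
theorem isKFlatFor_boundedAbove (K : CochainComplex (ModSite.Mod O) ℤ) (b : ℤ)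
    (hb : ∀ n, b < n → IsZero (K.X n)) (h : ∀ n, ModSite.IsFlat (K.X n)) : IsKFlatFor (tT O) K :=
  isKFlatFor_of_boundedAbove K b hb h

/-- Sequential colimits of flat modules are flat. -/
theorem isFlat_sequential {F : ℕ ⥤ ModSite.Mod O} {c : Cocone F} (hc : IsColimit c)
    (h : ∀ j, ModSite.IsFlat (F.obj j)) : ModSite.IsFlat c.pt :=
  isFlat_of_colimit hc h

theorem isFlat_of_splitting (S : ShortComplex (ModSite.Mod O)) (σ : S.Splitting)
    (h₁ : ModSite.IsFlat S.X₁) (h₃ : ModSite.IsFlat S.X₃) : ModSite.IsFlat S.X₂ :=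
  isFlat_of_extension σ.shortExact h₁ h₃

/-- K-flat resolutions relative to a map. -/
theorem exists_kflat_res {K L : CochainComplex (ModSite.Mod O) ℤ} (a : K ⟶ L)
    (hK : IsKFlatFor (tT O) K) :
    ∃ (N : CochainComplex (ModSite.Mod O) ℤ) (b : K ⟶ N) (c : N ⟶ L), IsKFlatFor (tT O) N ∧
      QuasiIso c ∧ (∀ n, Epi (c.f n)) ∧ b ≫ c = a ∧
      ((∀ n, ModSite.IsFlat (K.X n)) → ∀ n, ModSite.IsFlat (N.X n)) :=
  exists_cell_res (IsKFlatFor (tT O)) (fun M : ModSite.Mod O => ModSite.IsFlat M) exists_flat_cover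
    isKFlatFor_zeroD (fun _ n h => h.shift n)
    (fun _ hS h₁ h₃ => h₁.ext₂ (fun a q => shortExact_map_of_splitting hS a q) h₃)
    isFlat_of_splitting (fun _ _ hc h => isKFlatFor_colimit hc h) (fun _ _ hc h => isFlat_sequential hc h)
    a hK

theorem isFlat_of_isZero {M : ModSite.Mod O} (hM : IsZero M) : ModSite.IsFlat M :=
  isFlat_of_preservesMono fun X _ _ _ =>
    ⟨fun a b _ => (((ModSite.tensorBi O).obj X).map_isZero hM).eq_of_tgt a b⟩

/-- K-flat resolutions. -/
theorem exists_kflat (L : CochainComplex (ModSite.Mod O) ℤ) :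
    ∃ (N : CochainComplex (ModSite.Mod O) ℤ) (c : N ⟶ L), IsKFlatFor (tT O) N ∧
      (∀ n, ModSite.IsFlat (N.X n)) ∧ QuasiIso c ∧ ∀ n, Epi (c.f n) := by
  let Z : ModSite.Mod O := kernel (𝟙 (ModSite.unit O))
  have hZ : IsZero Z := isZero_kernel_of_mono _
  have hzero : IsZero (zeroD fun _ : ℤ => Z) := by
    rw [IsZero.iff_id_eq_zero]
    ext n : 1
    exact hZ.eq_of_src _ _
  obtain ⟨N, b, c, hN, hc, he, -, hQ⟩ := exists_kflat_res (0 : zeroD (fun _ => Z) ⟶ L)
    (isKFlatFor_of_isZero hzero)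
  exact ⟨N, c, hN, hQ fun n => isFlat_of_isZero hZ, hc, he⟩

/-- Tensoring a quasi-isomorphism of K-flat complexes with any complex. -/
theorem quasiIso_tot₂ {P Q : CochainComplex (ModSite.Mod O) ℤ} (hP : IsKFlatFor (tT O) P)
    (hQ : IsKFlatFor (tT O) Q) (α : P ⟶ Q) [QuasiIso α] (F : CochainComplex (ModSite.Mod O) ℤ) :
    QuasiIso (totMap₂ (tT O) F α) :=
  IsKFlatFor.quasiIso_map₂ (fun M => by
    obtain ⟨N, c, hN, -, hc, -⟩ := exists_kflat M
    exact ⟨N, c, hc, fun A hA => acyclic_of_iso' (totSymm A N) (hN A hA)⟩) hP hQ α F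

/-- Two out of three along sequences with degreewise flat cokernel. -/
theorem isKFlatFor_two_of_three (S : ShortComplex (CochainComplex (ModSite.Mod O) ℤ))
    (hS : S.ShortExact) (h₃ : ∀ n, ModSite.IsFlat (S.X₃.X n)) :
    (IsKFlatFor (tT O) S.X₁ → IsKFlatFor (tT O) S.X₂ → IsKFlatFor (tT O) S.X₃) ∧
    (IsKFlatFor (tT O) S.X₁ → IsKFlatFor (tT O) S.X₃ → IsKFlatFor (tT O) S.X₂) ∧
    (IsKFlatFor (tT O) S.X₂ → IsKFlatFor (tT O) S.X₃ → IsKFlatFor (tT O) S.X₁) := by
  have h : ∀ (a : ModSite.Mod O) (q : ℤ),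
      ((S.map (HomologicalComplex.eval _ (ComplexShape.up ℤ) q)).map ((tT O).obj a)).ShortExact :=
    fun a q => shortExact_tensor (hS.map_of_exact (HomologicalComplex.eval _ (ComplexShape.up ℤ) q)) (h₃ q) a
  exact ⟨fun h₁ h₂ => h₁.ext₃ h h₂, fun h₁ h₃ => h₁.ext₂ h h₃, fun h₂ h₃ => h₂.ext₁ h h₃⟩

end Groth.Agent.SiteTen
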