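import Groth.Prelude.Def_KFlatSite
import Mathlib.CategoryTheory.Sites.LocallyBijective

/-!
# Sheafification of presheaves of modules is stable under tensoring

A locally bijective map `α : N ⟶ N'` induces, for every sheaf `G`, a bijection between
pairings `M × N' → G` and pairings `M × N → G`.
-/

set_option autoImplicit false
set_option backward.isDefEq.respectTransparency false

universe u

open CategoryTheory CategoryTheory.Limits Opposite MonoidalCategory

namespace Groth.Agent.SiteTen

variable {C : Type u} [SmallCategory C] {J : GrothendieckTopology C}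
  {O : Sheaf J CommRingCat.{u}}

/-- The map of presheaves of abelian groups underlying a map of presheaves of modules. -/
noncomputable abbrev abMap {N N' : ModSite.preMod O} (α : N ⟶ N') : N.presheaf ⟶ N'.presheaf :=
  (PresheafOfModules.toPresheaf _).map α

/-- A map which becomes invertible after sheafification. -/
abbrev IsW {N N' : ModSite.preMod O} (α : N ⟶ N') : Prop := J.W (abMap α)

/-- Restriction of sections. -/
noncomputable def res (M : ModSite.preMod O) {U V : C} (g : V ⟶ U) :
    M.obj (op U) →+ M.obj (op V) := (M.presheaf.map g.op).hom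

lemma res_apply (M : ModSite.preMod O) {U V : C} (g : V ⟶ U) (x : M.obj (op U)) :
    res M g x = M.map g.op x := rfl

lemma res_comp (M : ModSite.preMod O) {U V W : C} (g : V ⟶ U) (h : W ⟶ V) (x : M.obj (op U)) :
    res M h (res M g x) = res M (h ≫ g) x :=
  (ConcreteCategory.congr_hom (M.presheaf.map_comp g.op h.op) x).symm

lemma res_smul (M : ModSite.preMod O) {U V : C} (g : V ⟶ U) (r : O.obj.obj (op U))
    (x : M.obj (op U)) : res M g (r • x) = (O.obj.map g.op).hom r • res M g x :=
  M.map_smul g.op r x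

lemma res_app {N N' : ModSite.preMod O} (α : N ⟶ N') {U V : C} (g : V ⟶ U) (x : N.obj (op U)) :
    res N' g (α.app (op U) x) = α.app (op V) (res N g x) :=
  (PresheafOfModules.naturality_apply α g.op x).symm

lemma sheaf_forget (G : ModSite.Mod O) :
    Presieve.IsSheaf J (((ModSite.toPre O).obj G).presheaf ⋙ forget AddCommGrpCat.{u}) :=
  (CategoryTheory.isSheaf_iff_isSheaf_of_type _ _).1
    ((Presheaf.isSheaf_iff_isSheaf_forget J ((ModSite.toPre O).obj G).presheaf
      (forget AddCommGrpCat.{u})).1 G.isSheaf)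

lemma ext_of_sieve (G : ModSite.Mod O) {U : C} {S : Sieve U} (hS : S ∈ J U)
    {x y : ((ModSite.toPre O).obj G).obj (op U)}
    (h : ∀ ⦃V : C⦄ (g : V ⟶ U), S g →
      res ((ModSite.toPre O).obj G) g x = res ((ModSite.toPre O).obj G) g y) : x = y :=
  (sheaf_forget G S hS).isSeparatedFor.ext fun _ g hg => h g hg

variable {M N N' : ModSite.preMod O} {G : ModSite.Mod O}

/-- The value of a map out of a tensor product at a pure tensor. -/
noncomputable def pair (β : M ⊗ N ⟶ (ModSite.toPre O).obj G) (U : C) (m : M.obj (op U))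
    (n : N.obj (op U)) : ((ModSite.toPre O).obj G).obj (op U) :=
  β.app (op U) (TensorProduct.tmul (O.obj.obj (op U)) m n)

lemma pair_res (β : M ⊗ N ⟶ (ModSite.toPre O).obj G) {U V : C} (g : V ⟶ U) (m : M.obj (op U))
    (n : N.obj (op U)) :
    res ((ModSite.toPre O).obj G) g (pair β U m n) = pair β V (res M g m) (res N g n) :=
  res_app β g _

lemma hom_ext_pair {β β' : M ⊗ N ⟶ (ModSite.toPre O).obj G}
    (h : ∀ U m n, pair β U m n = pair β' U m n) : β = β' :=
  PresheafOfModules.hom_ext fun U => ModuleCat.MonoidalCategory.tensor_ext fun m n => h U.unop m n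

lemma pair_add_left (β : M ⊗ N ⟶ (ModSite.toPre O).obj G) (U : C) (m m' : M.obj (op U))
    (n : N.obj (op U)) : pair β U (m + m') n = pair β U m n + pair β U m' n := by
  rw [pair, TensorProduct.add_tmul, map_add]; rfl

lemma pair_smul_left (β : M ⊗ N ⟶ (ModSite.toPre O).obj G) (U : C) (r : O.obj.obj (op U))
    (m : M.obj (op U)) (n : N.obj (op U)) : pair β U (r • m) n = r • pair β U m n := by
  rw [pair, ← TensorProduct.smul_tmul', map_smul]; rfl

lemma pair_add_right (β : M ⊗ N ⟶ (ModSite.toPre O).obj G) (U : C) (m : M.obj (op U))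
    (n n' : N.obj (op U)) : pair β U m (n + n') = pair β U m n + pair β U m n' := by
  rw [pair, TensorProduct.tmul_add, map_add]; rfl

lemma pair_smul_right (β : M ⊗ N ⟶ (ModSite.toPre O).obj G) (U : C) (r : O.obj.obj (op U))
    (m : M.obj (op U)) (n : N.obj (op U)) : pair β U m (r • n) = r • pair β U m n := by
  rw [pair, TensorProduct.tmul_smul, map_smul]; rfl

lemma pair_whisker (α : N ⟶ N') (γ : M ⊗ N' ⟶ (ModSite.toPre O).obj G) (U : C)
    (m : M.obj (op U)) (n : N.obj (op U)) :
    pair ((M ◁ α) ≫ γ) U m n = pair γ U m (α.app (op U) n) := rfl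

section Extend

variable {α : N ⟶ N'} (hα : IsW α) (β : M ⊗ N ⟶ (ModSite.toPre O).obj G)

/-- `z` extends `β` at `(m, n')`. -/
def IsExt {U : C} (m : M.obj (op U)) (n' : N'.obj (op U))
    (z : ((ModSite.toPre O).obj G).obj (op U)) : Prop :=
  ∀ ⦃V : C⦄ (g : V ⟶ U) (n : N.obj (op V)), α.app (op V) n = res N' g n' →
    res ((ModSite.toPre O).obj G) g z = pair β V (res M g m) n

include hα

lemma imageSieve_mem {U : C} (n' : N'.obj (op U)) :
    Presheaf.imageSieve (abMap α) n' ∈ J U :=
  haveI := ((J.W_iff_isLocallyBijective (abMap α)).1 hα).2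
  Presheaf.imageSieve_mem J (abMap α) n'

lemma pair_eq_of_app_eq {U : C} (m : M.obj (op U)) {n₁ n₂ : N.obj (op U)}
    (h : α.app (op U) n₁ = α.app (op U) n₂) : pair β U m n₁ = pair β U m n₂ := by
  haveI := ((J.W_iff_isLocallyBijective (abMap α)).1 hα).1
  refine ext_of_sieve G (Presheaf.equalizerSieve_mem J (abMap α) n₁ n₂ h) fun V g hg => ?_
  rw [pair_res, pair_res]
  exact congrArg _ hg

lemma existsUnique_ext {U : C} (m : M.obj (op U)) (n' : N'.obj (op U)) :
    ∃! z, IsExt (α := α) β m n' z := by
  let S := Presheaf.imageSieve (abMap α) n'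
  let x : Presieve.FamilyOfElements (((ModSite.toPre O).obj G).presheaf ⋙ forget AddCommGrpCat.{u})
      S.arrows := fun V g hg => pair β V (res M g m) hg.choose
  have hx : x.Compatible := by
    intro V₁ V₂ W a₁ a₂ g₁ g₂ h₁ h₂ e
    change res _ a₁ (pair β V₁ (res M g₁ m) h₁.choose) =
      res _ a₂ (pair β V₂ (res M g₂ m) h₂.choose)
    rw [pair_res, pair_res, res_comp, res_comp, e]
    refine pair_eq_of_app_eq hα β _ ?_
    have e₁ : α.app (op V₁) h₁.choose = res N' g₁ n' := h₁.choose_spec
    have e₂ : α.app (op V₂) h₂.choose = res N' g₂ n' := h₂.choose_spec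
    rw [← res_app, ← res_app, e₁, e₂, res_comp, res_comp, e]
  obtain ⟨z, hz, -⟩ := sheaf_forget G S (imageSieve_mem hα n') x hx
  refine ⟨z, fun V g n hn => ?_, fun z' hz' =>
    ext_of_sieve G (imageSieve_mem hα n') fun V g hg =>
      (hz' g hg.choose hg.choose_spec).trans (hz g hg).symm⟩
  refine (hz g ⟨n, hn⟩).trans (pair_eq_of_app_eq hα β _ ?_)
  exact (Exists.choose_spec (p := fun t => α.app (op V) t = res N' g n') ⟨n, hn⟩).trans hn.symm

/-- The extended pairing. -/
noncomputable def ext {U : C} (m : M.obj (op U)) (n' : N'.obj (op U)) :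
    ((ModSite.toPre O).obj G).obj (op U) :=
  (existsUnique_ext hα β m n').choose

lemma isExt_ext {U : C} (m : M.obj (op U)) (n' : N'.obj (op U)) :
    IsExt (α := α) β m n' (ext hα β m n') :=
  (existsUnique_ext hα β m n').choose_spec.1

lemma ext_eq {U : C} (m : M.obj (op U)) (n' : N'.obj (op U))
    (z : ((ModSite.toPre O).obj G).obj (op U)) (hz : IsExt (α := α) β m n' z) :
    ext hα β m n' = z :=
  ((existsUnique_ext hα β m n').choose_spec.2 z hz).symm

/-- To compare with the extension it is enough to work on the sieves of local preimages. -/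
lemma eq_ext_of_local {U : C} (z : ((ModSite.toPre O).obj G).obj (op U)) {S : Sieve U}
    (hS : S ∈ J U) {m : M.obj (op U)} {n' : N'.obj (op U)}
    (h : ∀ ⦃V : C⦄ (g : V ⟶ U), S g → ∃ n : N.obj (op V), α.app (op V) n = res N' g n' ∧
      res ((ModSite.toPre O).obj G) g z = pair β V (res M g m) n) : z = ext hα β m n' :=
  ext_of_sieve G hS fun V g hg => by
    obtain ⟨n, hn, hz⟩ := h g hg
    exact hz.trans (isExt_ext hα β m n' g n hn).symm

lemma ext_add_left {U : C} (m m' : M.obj (op U)) (n' : N'.obj (op U)) :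
    ext hα β (m + m') n' = ext hα β m n' + ext hα β m' n' :=
  ext_eq hα β _ _ _ fun V g n hn => by
    rw [map_add, map_add, isExt_ext hα β m n' g n hn, isExt_ext hα β m' n' g n hn, pair_add_left]

lemma ext_smul_left {U : C} (r : O.obj.obj (op U)) (m : M.obj (op U)) (n' : N'.obj (op U)) :
    ext hα β (r • m) n' = r • ext hα β m n' :=
  ext_eq hα β _ _ _ fun V g n hn => by
    rw [res_smul, res_smul, isExt_ext hα β m n' g n hn, pair_smul_left]

lemma ext_add_right {U : C} (m : M.obj (op U)) (n₁ n₂ : N'.obj (op U)) :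
    ext hα β m (n₁ + n₂) = ext hα β m n₁ + ext hα β m n₂ :=
  (eq_ext_of_local hα β _ (J.intersection_covering (imageSieve_mem hα n₁) (imageSieve_mem hα n₂))
    fun V g ⟨⟨t₁, h₁⟩, ⟨t₂, h₂⟩⟩ => ⟨t₁ + t₂, by
        rw [map_add, map_add]; exact congrArg₂ (· + ·) h₁ h₂, by
        rw [map_add, isExt_ext hα β m n₁ g t₁ h₁, isExt_ext hα β m n₂ g t₂ h₂, pair_add_right]⟩).symm

lemma ext_smul_right {U : C} (r : O.obj.obj (op U)) (m : M.obj (op U)) (n' : N'.obj (op U)) :
    ext hα β m (r • n') = r • ext hα β m n' :=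
  (eq_ext_of_local hα β _ (imageSieve_mem hα n') fun V g hg => by
    let t : N.obj (op V) := hg.choose
    have ht : α.app (op V) t = res N' g n' := hg.choose_spec
    exact ⟨(O.obj.map g.op).hom r • t, by rw [res_smul, map_smul]; exact congrArg _ ht, by
      rw [res_smul, isExt_ext hα β m n' g t ht, pair_smul_right]⟩).symm

lemma res_ext {U V : C} (g : V ⟶ U) (m : M.obj (op U)) (n' : N'.obj (op U)) :
    res ((ModSite.toPre O).obj G) g (ext hα β m n') = ext hα β (res M g m) (res N' g n') :=
  (ext_eq hα β _ _ _ fun W a n hn => by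
    rw [res_comp, res_comp]
    exact isExt_ext hα β m n' (a ≫ g) n (hn.trans (res_comp N' g a n'))).symm

/-- The extension as a map. -/
noncomputable def extHom : M ⊗ N' ⟶ (ModSite.toPre O).obj G where
  app U := ModuleCat.MonoidalCategory.tensorLift
    (fun m n' => ext hα β (U := U.unop) m n')
    (fun m m' n' => ext_add_left hα β m m' n')
    (fun r m n' => ext_smul_left hα β r m n')
    (fun m n₁ n₂ => ext_add_right hα β m n₁ n₂)
    (fun r m n' => ext_smul_right hα β r m n')
  naturality {U V} g := ModuleCat.MonoidalCategory.tensor_ext fun m n' =>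
    (res_ext hα β g.unop m n').symm

omit β in
/-- Precomposition with `M ◁ α` is bijective on maps into sheaves. -/
theorem bijective_whiskerLeft_comp (M : ModSite.preMod O) :
    Function.Bijective fun γ : M ⊗ N' ⟶ (ModSite.toPre O).obj G => (M ◁ α) ≫ γ := by
  constructor
  · intro γ γ' h
    refine hom_ext_pair fun U m n' => ext_of_sieve G (imageSieve_mem hα n') fun V g ⟨n, hn⟩ => ?_
    rw [pair_res, pair_res]
    have e := congrArg (fun t : M ⊗ N ⟶ (ModSite.toPre O).obj G => pair t V (res M g m) n) h
    simp only [pair_whisker] at e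
    have hn' : α.app (op V) n = res N' g n' := hn
    rwa [hn'] at e
  · intro β
    refine ⟨extHom hα β, hom_ext_pair fun U m n => ?_⟩
    rw [pair_whisker]
    refine ext_eq hα β m _ _ fun V g t ht => ?_
    rw [pair_res]
    exact pair_eq_of_app_eq hα β _ ((res_app α g n).symm.trans ht.symm)

end Extend

/-- The sheafification adjunction, on `ModSite.preMod O`. -/
noncomputable abbrev shAdj (O : Sheaf J CommRingCat.{u}) : ModSite.shPre O ⊣ ModSite.toPre O :=
  PresheafOfModules.sheafificationAdjunction (𝟙 (ModSite.ringSh O).obj)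

/-- A map inducing bijections on maps into all sheaves is inverted by sheafification. -/
theorem isIso_shPre_map_of_bijective {P Q : ModSite.preMod O} (φ : P ⟶ Q)
    (h : ∀ G : ModSite.Mod O, Function.Bijective fun γ : Q ⟶ (ModSite.toPre O).obj G => φ ≫ γ) :
    IsIso ((ModSite.shPre O).map φ) := by
  rw [isIso_iff_coyoneda_map_bijective]
  intro G
  have e : (fun x : (ModSite.shPre O).obj Q ⟶ G => (ModSite.shPre O).map φ ≫ x) =
      ((shAdj O).homEquiv P G).symm ∘ (fun γ => φ ≫ γ) ∘ (shAdj O).homEquiv Q G := by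
    funext x
    simp [Adjunction.homEquiv_naturality_left_symm]
  rw [e]
  exact (Equiv.bijective _).comp ((h G).comp (Equiv.bijective _))

/-- Sheafification inverts tensor products with locally bijective maps. -/
theorem isIso_shPre_whiskerLeft (M : ModSite.preMod O) {N N' : ModSite.preMod O} (α : N ⟶ N')
    (hα : IsW α) : IsIso ((ModSite.shPre O).map (M ◁ α)) :=
  isIso_shPre_map_of_bijective _ fun _ => bijective_whiskerLeft_comp hα M

theorem isIso_shPre_whiskerRight (M : ModSite.preMod O) {N N' : ModSite.preMod O} (α : N ⟶ N')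
    (hα : IsW α) : IsIso ((ModSite.shPre O).map (α ▷ M)) := by
  haveI := isIso_shPre_whiskerLeft M α hα
  have : α ▷ M = (β_ N M).hom ≫ (M ◁ α) ≫ (β_ N' M).inv := by
    simp [← BraidedCategory.braiding_naturality_left_assoc]
  rw [this, Functor.map_comp, Functor.map_comp]
  infer_instance

/-- The unit of sheafification. -/
theorem isW_unit (N : ModSite.preMod O) : IsW ((shAdj O).unit.app N) := by
  rw [IsW, abMap, PresheafOfModules.toPresheaf_map_sheafificationAdjunction_unit_app]
  exact J.W_toSheafify _

end Groth.Agent.SiteTen
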