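import Groth.Agent.SiteTen.Linear
import Mathlib.CategoryTheory.Functor.OfSequence
import Mathlib.CategoryTheory.Limits.Constructions.EventuallyConstant

/-!
# Localising the structure sheaf at a global section

`locAway s G` is the colimit of `G → G → …`, all maps multiplication by `s`; in particular `O_s` is
flat, and tensoring with it inverts `s`.
-/

set_option autoImplicit false
set_option backward.isDefEq.respectTransparency false

universe u

open CategoryTheory CategoryTheory.Limits Opposite HomologicalComplex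
open Groth.Agent.DCat

namespace Groth.Agent.SiteTen

variable {C : Type u} [SmallCategory C] {J : GrothendieckTopology C} {O : Sheaf J CommRingCat.{u}}
  (s : DerComp.GSec O)

section Seq

variable (G : ModSite.Mod O)

/-- The tower of multiplications by `s`. -/
noncomputable def awaySeq : ℕ ⥤ ModSite.Mod O :=
  Functor.ofSequence (X := fun _ => G) fun _ => DerComp.smulEnd s G

lemma awaySeq_succ (n : ℕ) :
    (awaySeq s G).map (homOfLE (Nat.le_add_right n 1)) = DerComp.smulEnd s G :=
  Functor.ofSequence_map_homOfLE_succ _ n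

/-- The cocone with point `locAway s G`. -/
noncomputable def awayCocone : Cocone (awaySeq s G) where
  pt := DerComp.locAway s G
  ι := NatTrans.ofSequence (F := awaySeq s G)
    (fun n => Sigma.ι (fun _ : ℕ => G) n ≫ cokernel.π (DerComp.awayMap s G)) fun n => by
      rw [awaySeq_succ]
      change DerComp.smulEnd s G ≫ Sigma.ι (fun _ : ℕ => G) (n + 1) ≫ cokernel.π _ =
        (Sigma.ι (fun _ : ℕ => G) n ≫ cokernel.π _) ≫ 𝟙 _
      rw [Category.comp_id]
      have h := congrArg (Sigma.ι (fun _ : ℕ => G) n ≫ ·) (cokernel.condition (DerComp.awayMap s G))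
      simp only [comp_zero] at h
      rw [DerComp.awayMap, Sigma.ι_desc_assoc, Preadditive.sub_comp, sub_eq_zero, Category.assoc] at h
      exact h.symm

lemma awayCocone_app (n : ℕ) :
    (awayCocone s G).ι.app n = Sigma.ι (fun _ : ℕ => G) n ≫ cokernel.π (DerComp.awayMap s G) := rfl

/-- `locAway s G` is the colimit of the tower. -/
noncomputable def isColimitAway : IsColimit (awayCocone s G) where
  desc c := cokernel.desc _ (Sigma.desc fun n => c.ι.app n) (by
    refine Sigma.hom_ext _ _ fun n => ?_
    have h := c.w (homOfLE (Nat.le_add_right n 1))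
    have h' : (awaySeq s G).map (homOfLE (Nat.le_add_right n 1)) = DerComp.smulEnd s G :=
      Functor.ofSequence_map_homOfLE_succ _ n
    rw [h'] at h
    rw [comp_zero, DerComp.awayMap, Sigma.ι_desc_assoc, Preadditive.sub_comp, sub_eq_zero,
      Category.assoc]
    simp [h]
    )
  fac c n := by simp [awayCocone_app]
  uniq c m hm := coequalizer.hom_ext (Sigma.hom_ext _ _ fun n => by
    have h := hm n
    simp [awayCocone_app] at h
    simpa using h)

lemma toLocAway_eq : DerComp.toLocAway s G = (awayCocone s G).ι.app 0 := rfl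

lemma smulEnd_awayCocone (n : ℕ) :
    DerComp.smulEnd s G ≫ (awayCocone s G).ι.app (n + 1) = (awayCocone s G).ι.app n :=
  (congrArg (· ≫ (awayCocone s G).ι.app (n + 1)) (awaySeq_succ s G n).symm).trans
    ((awayCocone s G).w (homOfLE (Nat.le_add_right n 1)))

/-- `s` is invertible on `locAway s G`. -/
theorem isIso_smul_locAway : IsIso (s • 𝟙 (DerComp.locAway s G)) := by
  let sh : DerComp.locAway s G ⟶ DerComp.locAway s G :=
    (isColimitAway s G).desc
      { pt := DerComp.locAway s G
        ι := NatTrans.ofSequence (F := awaySeq s G) (fun n => (awayCocone s G).ι.app (n + 1))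
          fun n => (congrArg (· ≫ _) (awaySeq_succ s G n)).trans
            ((smulEnd_awayCocone s G (n + 1)).trans (Category.comp_id _).symm) }
  have hsh : ∀ n, (awayCocone s G).ι.app n ≫ sh = (awayCocone s G).ι.app (n + 1) := fun n =>
    (isColimitAway s G).fac _ n
  rw [smulEnd_eq]
  refine ⟨sh, (isColimitAway s G).hom_ext fun n => ?_, (isColimitAway s G).hom_ext fun n => ?_⟩
  · refine (Category.assoc _ _ _).symm.trans ((congrArg (· ≫ sh) (DerComp.smulEnd_comm s _).symm).trans ?_)
    exact (Category.assoc _ _ _).trans ((congrArg _ (hsh n)).trans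
      ((smulEnd_awayCocone s G n).trans (Category.comp_id _).symm))
  · refine (Category.assoc _ _ _).symm.trans ((congrArg (· ≫ _) (hsh n)).trans ?_)
    exact (DerComp.smulEnd_comm s _).symm.trans
      ((smulEnd_awayCocone s G n).trans (Category.comp_id _).symm)

end Seq

/-- `O_s` is flat. -/
theorem isFlat_locAway_unit : ModSite.IsFlat (DerComp.locAway s (ModSite.unit O)) :=
  isFlat_of_colimit (c := awayCocone s (ModSite.unit O)) (isColimitAway s _) fun _ => isFlat_unit O

variable (F : CochainComplex (ModSite.Mod O) ℤ)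

/-- The tower of multiplications by `s` on a complex. -/
noncomputable def cxSeq : ℕ ⥤ CochainComplex (ModSite.Mod O) ℤ :=
  Functor.ofSequence (X := fun _ => F) fun _ => s • 𝟙 F

/-- `F ⟶ F ⊗ O_s`, degreewise. -/
noncomputable def awayLeg (n : ℕ) :
    F ⟶ (((tT O).flip.obj (DerComp.locAway s (ModSite.unit O))).mapHomologicalComplex
      (ComplexShape.up ℤ)).obj F where
  f p := (tenFlipIso (ModSite.unit O) ≪≫ tenUnitNatIso O).inv.app (F.X p) ≫
    ((tT O).obj (F.X p)).map ((awayCocone s (ModSite.unit O)).ι.app n)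
  comm' p q _ := by
    have h₁ := (tenFlipIso (ModSite.unit O) ≪≫ tenUnitNatIso O).inv.naturality (F.d p q)
    have h₂ := ((tT O).map (F.d p q)).naturality ((awayCocone s (ModSite.unit O)).ι.app n)
    simp only [Functor.id_map] at h₁
    refine Eq.trans ?_ ((reassoc_of% h₁) _).symm
    rw [Category.assoc]
    exact congrArg _ h₂

lemma awayLeg_succ (n : ℕ) : (s • 𝟙 F) ≫ awayLeg s F (n + 1) = awayLeg s F n := by
  refine HomologicalComplex.hom_ext _ _ fun p => ?_
  let e := (tenFlipIso (ModSite.unit O) ≪≫ tenUnitNatIso O)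
  have h₁ := e.inv.naturality (s • 𝟙 (F.X p))
  have hw := smulEnd_awayCocone s (ModSite.unit O) n
  rw [← smulEnd_eq] at hw
  simp only [Functor.id_map] at h₁
  change (s • 𝟙 F).f p ≫ e.inv.app (F.X p) ≫ _ = e.inv.app (F.X p) ≫ _
  rw [HomologicalComplex.smul_f_apply, HomologicalComplex.id_f, reassoc_of% h₁]
  refine congrArg _ ?_
  rw [← hw, Functor.map_comp]
  refine congrArg (· ≫ _) ?_
  change ((tT O).map (s • 𝟙 (F.X p))).app (ModSite.unit O) = ((tT O).obj (F.X p)).map (s • 𝟙 _)
  rw [tT_map_app_smul, tT_obj_map_smul]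

lemma cxSeq_succ (n : ℕ) : (cxSeq s F).map (homOfLE (Nat.le_add_right n 1)) = s • 𝟙 F :=
  Functor.ofSequence_map_homOfLE_succ _ n

/-- The cocone with point `F ⊗ O_s`. -/
noncomputable def cxCocone : Cocone (cxSeq s F) where
  pt := (((tT O).flip.obj (DerComp.locAway s (ModSite.unit O))).mapHomologicalComplex
    (ComplexShape.up ℤ)).obj F
  ι := NatTrans.ofSequence (F := cxSeq s F) (awayLeg s F) fun n => by
    rw [cxSeq_succ]
    exact (awayLeg_succ s F n).trans (Category.comp_id _).symm

/-- `F ⊗ O_s` is the colimit of the tower. -/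
theorem nonempty_isColimit_cx : Nonempty (IsColimit (cxCocone s F)) := by
  refine ⟨HomologicalComplex.isColimitOfEval _ _ fun p => ?_⟩
  let e := (tenFlipIso (ModSite.unit O) ≪≫ tenUnitNatIso O).app (F.X p)
  let α₀ : cxSeq s F ⋙ HomologicalComplex.eval _ (ComplexShape.up ℤ) p ⟶
      awaySeq s (ModSite.unit O) ⋙ (tT O).obj (F.X p) :=
    NatTrans.ofSequence (fun _ => e.inv) fun n => by
      have h₁ := (tenFlipIso (ModSite.unit O) ≪≫ tenUnitNatIso O).inv.naturality (s • 𝟙 (F.X p))
      simp only [Functor.id_map] at h₁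
      have h₂ : (cxSeq s F ⋙ HomologicalComplex.eval _ (ComplexShape.up ℤ) p).map
          (homOfLE (Nat.le_add_right n 1)) = s • 𝟙 (F.X p) := by
        rw [Functor.comp_map, cxSeq_succ]
        rfl
      have h₃ : (awaySeq s (ModSite.unit O) ⋙ (tT O).obj (F.X p)).map
          (homOfLE (Nat.le_add_right n 1)) = ((tT O).map (s • 𝟙 (F.X p))).app (ModSite.unit O) := by
        rw [Functor.comp_map, awaySeq_succ, ← smulEnd_eq, tT_map_app_smul]
        exact tT_obj_map_smul s _ _
      exact ((congrArg (· ≫ e.inv) h₂).trans h₁).trans (congrArg (e.inv ≫ ·) h₃.symm)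
  let α : cxSeq s F ⋙ HomologicalComplex.eval _ (ComplexShape.up ℤ) p ≅
      awaySeq s (ModSite.unit O) ⋙ (tT O).obj (F.X p) :=
    NatIso.ofComponents (fun _ => e.symm) fun f => α₀.naturality f
  exact IsColimit.ofIsoColimit ((IsColimit.precomposeHomEquiv α _).symm
    (isColimitOfPreserves ((tT O).obj (F.X p)) (isColimitAway s (ModSite.unit O))))
    (Cocone.ext (Iso.refl _) fun n => Category.comp_id _)

/-- If `s` acts invertibly on cohomology, `F ⟶ F ⊗ O_s` is a quasi-isomorphism. -/
theorem quasiIso_awayLeg (h : QuasiIso (s • 𝟙 F)) : QuasiIso (awayLeg s F 0) := by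
  obtain ⟨hc⟩ := nonempty_isColimit_cx s F
  refine ⟨fun i => ?_⟩
  rw [quasiIsoAt_iff_isIso_homologyMap]
  obtain ⟨hH⟩ := nonempty_isColimit_homology hc i
  have hev : (cxSeq s F ⋙ homologyFunctor _ (ComplexShape.up ℤ) i).IsEventuallyConstantFrom 0 := fun j f => by
    induction j with
    | zero => rw [Subsingleton.elim f (𝟙 0)]; infer_instance
    | succ k ih =>
      haveI := ih (homOfLE (Nat.zero_le k))
      rw [← Subsingleton.elim (homOfLE (Nat.zero_le k) ≫ homOfLE (Nat.le_add_right k 1)) f,
        Functor.map_comp]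
      haveI : IsIso ((cxSeq s F ⋙ homologyFunctor _ (ComplexShape.up ℤ) i).map
          (homOfLE (Nat.le_add_right k 1))) := by
        rw [Functor.comp_map, cxSeq_succ]
        exact (quasiIsoAt_iff_isIso_homologyMap _ _).1 (QuasiIso.quasiIsoAt (self := h) i)
      infer_instance
  exact hev.isIso_ι_of_isColimit hH

end Groth.Agent.SiteTen
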