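import Groth.Agent.SiteTen.LTensor
import Groth.Agent.SiteTen.Away
import Groth.Agent.SiteTen.TotSingle

/-!
# The derived tensor product with `O_s`

Tensoring with the flat module `O_s` is exact, so it descends; there is a natural map `X ⟶ X ⊗ O_s`
which is invertible when `s` is invertible on `X`, and `s` is invertible on `X ⊗ O_s`.
-/

set_option autoImplicit false
set_option backward.isDefEq.respectTransparency false

universe u

open CategoryTheory CategoryTheory.Limits Opposite HomologicalComplex
open Groth.Agent.DCat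

attribute [local instance] HasDerivedCategory.standard

namespace Groth.Agent.SiteTen

variable {C : Type u} [SmallCategory C] {J : GrothendieckTopology C} {O : Sheaf J CommRingCat.{u}}

variable (s : DerComp.GSec O)

/-- `O_s` in degree zero. -/
noncomputable abbrev awayCx : CochainComplex (ModSite.Mod O) ℤ :=
  (HomologicalComplex.single (ModSite.Mod O) (ComplexShape.up ℤ) 0).obj (DerComp.locAway s (ModSite.unit O))

theorem isKFlatFor_awayCx : IsKFlatFor (tT O) (awayCx s) :=
  haveI := (isFlat_locAway_unit s).1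
  haveI := (isFlat_locAway_unit s).2
  isKFlatFor_single (T := tT O) 0

theorem inverts_awayCx :
    (HomologicalComplex.quasiIso (ModSite.Mod O) (ComplexShape.up ℤ)).IsInvertedBy
      (ModSite.tensorCxQ (awayCx s)) := fun F G f hf => by
  haveI : QuasiIso f := (HomologicalComplex.mem_quasiIso_iff _).1 hf
  haveI := (isKFlatFor_awayCx s).quasiIso_map f
  exact Localization.inverts DerivedCategory.Q
    (HomologicalComplex.quasiIso (ModSite.Mod O) (ComplexShape.up ℤ))
    (totMap₁ (tT O) f (awayCx s)) ((HomologicalComplex.mem_quasiIso_iff _).2 ‹_›)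

variable [ModSite.HasLTensorCx (awayCx s)]

instance isIso_awayCounit : IsIso (ltCounit (awayCx s)) :=
  Functor.isIso_of_isLeftDerivedFunctor_of_inverts _ _ (inverts_awayCx s)

/-- `F ⟶ F ⊗ O_s`. -/
noncomputable def legTot : 𝟭 (CochainComplex (ModSite.Mod O) ℤ) ⟶
    (ModSite.tensorCx O).flip.obj (awayCx s) where
  app F := awayLeg s F 0 ≫ totSingle (tT O) _ F
  naturality F G f := by
    have h : f ≫ awayLeg s G 0 = awayLeg s F 0 ≫
        (((tT O).flip.obj (DerComp.locAway s (ModSite.unit O))).mapHomologicalComplex (ComplexShape.up ℤ)).map f := by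
      refine HomologicalComplex.hom_ext _ _ fun p => ?_
      have h₁ := (tenFlipIso (ModSite.unit O) ≪≫ tenUnitNatIso O).inv.naturality (f.f p)
      have h₂ := ((tT O).map (f.f p)).naturality ((awayCocone s (ModSite.unit O)).ι.app 0)
      simp only [Functor.id_map] at h₁
      refine ((reassoc_of% h₁) _).trans ?_
      refine Eq.trans ?_ (Category.assoc _ _ _).symm
      exact congrArg _ h₂.symm
    exact ((Category.assoc _ _ _).symm.trans (congrArg (· ≫ _) h)).trans
      ((Category.assoc _ _ _).trans ((congrArg (awayLeg s F 0 ≫ ·)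
        (totSingle_natural (tT O) _ f)).trans (Category.assoc _ _ _).symm))

/-- `Q F ⟶ Q F ⊗^L O_s`. -/
noncomputable def gammaQ :
    (DerivedCategory.Q (C := ModSite.Mod O)) ⟶ DerivedCategory.Q ⋙ ModSite.LTensorCx (awayCx s) :=
  (Functor.leftUnitor _).inv ≫ Functor.whiskerRight (legTot s) DerivedCategory.Q ≫ inv (ltCounit (awayCx s))

lemma gammaQ_app (F : CochainComplex (ModSite.Mod O) ℤ) :
    (gammaQ s).app F = DerivedCategory.Q.map (awayLeg s F 0 ≫ totSingle (tT O) _ F) ≫
      inv ((ltCounit (awayCx s)).app F) := by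
  rw [← NatIso.isIso_inv_app]
  exact Category.id_comp _

/-- `X ⟶ X ⊗^L O_s`. -/
noncomputable def gamma : 𝟭 (DerivedCategory (ModSite.Mod O)) ⟶ ModSite.LTensorCx (awayCx s) :=
  (Localization.whiskeringLeftFunctor' DerivedCategory.Q
    (HomologicalComplex.quasiIso (ModSite.Mod O) (ComplexShape.up ℤ)) _).preimage
      ((Functor.rightUnitor _).hom ≫ gammaQ s)

lemma gamma_app_Q (F : CochainComplex (ModSite.Mod O) ℤ) :
    (gamma s).app (DerivedCategory.Q.obj F) = (gammaQ s).app F :=
  (congr_app (Functor.map_preimage (Localization.whiskeringLeftFunctor' DerivedCategory.Q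
    (HomologicalComplex.quasiIso (ModSite.Mod O) (ComplexShape.up ℤ)) _)
      ((Functor.rightUnitor _).hom ≫ gammaQ s)) F).trans (Category.id_comp _)

/-- `X ⟶ X ⊗^L O_s` is invertible when `s` is invertible on `X`. -/
theorem isIso_gamma {X : DerivedCategory (ModSite.Mod O)} (h : IsIso (s • 𝟙 X)) :
    IsIso ((gamma s).app X) := by
  let e := DerivedCategory.Q.objObjPreimageIso X
  let F := DerivedCategory.Q.objPreimage X
  have hF : IsIso (s • 𝟙 (DerivedCategory.Q.obj F)) := by
    rw [show s • 𝟙 (DerivedCategory.Q.obj F) = e.hom ≫ (s • 𝟙 X) ≫ e.inv by simp [e, F]]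
    infer_instance
  have hq : QuasiIso (s • 𝟙 F) := by
    rw [← DerivedCategory.isIso_Q_map_iff_quasiIso, Functor.map_smul, CategoryTheory.Functor.map_id]
    exact hF
  haveI := quasiIso_awayLeg s F hq
  haveI : IsIso (DerivedCategory.Q.map (awayLeg s F 0 ≫ totSingle (tT O) (DerComp.locAway s (ModSite.unit O)) F)) := by
    rw [DerivedCategory.isIso_Q_map_iff_quasiIso]
    infer_instance
  haveI : IsIso ((gamma s).app (DerivedCategory.Q.obj F)) := by
    rw [gamma_app_Q, gammaQ_app]
    exact IsIso.comp_isIso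
  rw [show (gamma s).app X = e.inv ≫ (gamma s).app (DerivedCategory.Q.obj F) ≫
    (ModSite.LTensorCx (awayCx s)).map e.hom by
      rw [← (gamma s).naturality e.hom, Functor.id_map, Iso.inv_hom_id_assoc]]
  infer_instance

/-- `s` is invertible on `X ⊗^L O_s`. -/
theorem isIso_smul_ltensor (X : DerivedCategory (ModSite.Mod O)) :
    IsIso (s • 𝟙 ((ModSite.LTensorCx (awayCx s)).obj X)) := by
  let e := DerivedCategory.Q.objObjPreimageIso X
  let F := DerivedCategory.Q.objPreimage X
  haveI : IsIso (s • 𝟙 (awayCx s)) := by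
    haveI := isIso_smul_locAway s (ModSite.unit O)
    rw [show s • 𝟙 (awayCx s) = (HomologicalComplex.single (ModSite.Mod O) (ComplexShape.up ℤ) 0).map
      (s • 𝟙 (DerComp.locAway s (ModSite.unit O))) by
        change s • 𝟙 ((CochainComplex.singleFunctor (ModSite.Mod O) 0).obj _) =
          (CochainComplex.singleFunctor (ModSite.Mod O) 0).map _
        rw [Functor.map_smul, CategoryTheory.Functor.map_id]]
    infer_instance
  haveI h₁ : IsIso (totMap₂ (tT O) F (s • 𝟙 (awayCx s))) :=
    inferInstanceAs (IsIso (((tT O).map₂CochainComplex.obj F).map (s • 𝟙 (awayCx s))))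
  rw [totMap₂_smul] at h₁
  haveI h₂ : IsIso (DerivedCategory.Q.map (s • 𝟙 (tot (tT O) F (awayCx s)))) := inferInstance
  rw [Functor.map_smul, CategoryTheory.Functor.map_id] at h₂
  let i : DerivedCategory.Q.obj (tot (tT O) F (awayCx s)) ≅ (ModSite.LTensorCx (awayCx s)).obj X :=
    (asIso ((ltCounit (awayCx s)).app F)).symm ≪≫ (ModSite.LTensorCx (awayCx s)).mapIso e
  rw [show s • 𝟙 ((ModSite.LTensorCx (awayCx s)).obj X) =
    i.inv ≫ (s • 𝟙 (DerivedCategory.Q.obj (tot (tT O) F (awayCx s)))) ≫ i.hom by
      rw [Linear.smul_comp, Category.id_comp, Linear.comp_smul]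
      exact congrArg (s • ·) i.inv_hom_id.symm]
  infer_instance

end Groth.Agent.SiteTen
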