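import Groth.Agent.SiteTen.KFlat

/-!
# Acyclic K-flat complexes, and restriction of K-flat complexes
-/

set_option autoImplicit false
set_option backward.isDefEq.respectTransparency false

universe u

open CategoryTheory CategoryTheory.Limits Opposite MonoidalCategory HomologicalComplex
open Groth.Agent.DCat

namespace Groth.Agent.SiteTen

variable {C : Type u} [SmallCategory C] {J : GrothendieckTopology C} {O : Sheaf J CommRingCat.{u}}

/-- An acyclic K-flat complex stays acyclic after tensoring with anything. -/
theorem acyclic_tot_of_kflat {K : CochainComplex (ModSite.Mod O) ℤ} (hK : IsKFlatFor (tT O) K)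
    (hac : K.Acyclic) (F : CochainComplex (ModSite.Mod O) ℤ) : (tot (tT O) F K).Acyclic := by
  obtain ⟨F', c, hF', -, hc, -⟩ := exists_kflat F
  haveI h := hK.quasiIso_map c
  exact fun n => (quasiIsoAt_iff_exactAt (totMap₁ (tT O) c K) n
    (acyclic_of_iso' (totSymm K F') (hF' K hac) n)).1 (QuasiIso.quasiIsoAt (self := h) n)

/-- Tensoring an acyclic K-flat complex termwise with a module keeps it acyclic. -/
theorem acyclic_map_tenLeft {K : CochainComplex (ModSite.Mod O) ℤ} (hK : IsKFlatFor (tT O) K)
    (hac : K.Acyclic) (G : ModSite.Mod O) :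
    ((((tT O).flip.obj G).mapHomologicalComplex (ComplexShape.up ℤ)).obj K).Acyclic := by
  obtain ⟨e⟩ := exists_tot_single_iso (T := tT O) K G
  exact acyclic_of_iso' (e ≪≫ totSymm _ _).symm (acyclic_tot_of_kflat hK hac _)

/-- Cycles of an acyclic K-flat complex with flat terms are flat. -/
theorem isFlat_cycles {K : CochainComplex (ModSite.Mod O) ℤ} (hK : IsKFlatFor (tT O) K)
    (hac : K.Acyclic) (hfl : ∀ i, ModSite.IsFlat (K.X i)) (n : ℤ) : ModSite.IsFlat (K.cycles n) := by
  have key : ∀ G : ModSite.Mod O, Mono (((tT O).flip.obj G).map (K.iCycles n)) := fun G => by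
    let Φ := (tT O).flip.obj (K.X n)
    let F := (tT O).flip.obj G
    let K' := (F.mapHomologicalComplex (ComplexShape.up ℤ)).obj K
    have hK' : K'.Acyclic := acyclic_map_tenLeft hK hac G
    haveI hepi : Epi (K.toCycles (n - 1) n) :=
      Preadditive.epi_of_isZero_cokernel' _ (K.homologyIsCokernel (n - 1) n (by simp))
        ((exactAt_iff_isZero_homology _ _).1 (hac n))
    refine Preadditive.mono_of_cancel_zero _ fun {A} x hx => ?_
    haveI : Epi (F.map (K.toCycles (n - 1) n)) := inferInstance
    obtain ⟨A₁, π, hπ, y, hy⟩ := surjective_up_to_refinements_of_epi (F.map (K.toCycles (n - 1) n)) x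
    have hy0 : y ≫ K'.d (n - 1) n = 0 := by
      change y ≫ F.map (K.d (n - 1) n) = 0
      rw [← K.toCycles_i (n - 1) n, F.map_comp, ← Category.assoc, ← hy, Category.assoc, hx, comp_zero]
    have hn := hK' (n - 1)
    rw [exactAt_iff' _ (n - 1 - 1) (n - 1) n (by simp) (by simp)] at hn
    obtain ⟨A₂, π', hπ', z, hz⟩ := hn.exact_up_to_refinements y hy0
    have hzero : F.map (K.d (n - 1 - 1) (n - 1)) ≫ F.map (K.toCycles (n - 1) n) = 0 := by
      rw [← F.map_comp, K.d_toCycles, F.map_zero]
    have : (π' ≫ π) ≫ x = 0 := by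
      rw [Category.assoc, hy, ← Category.assoc, hz, Category.assoc]
      exact (congrArg (z ≫ ·) hzero).trans comp_zero
    exact (cancel_epi (π' ≫ π)).1 (this.trans comp_zero.symm)
  refine isFlat_of_preservesMono fun X Y f _ => ?_
  haveI hX : Mono (((tT O).obj X).map (K.iCycles n)) := by
    haveI := key X
    rw [← NatIso.naturality_1 (tenFlipIso X) (K.iCycles n)]
    infer_instance
  haveI : Mono (((tT O).map f).app (K.X n)) := mono_flip_map (hfl n) f
  change Mono (((tT O).map f).app (K.cycles n))
  haveI : Mono (((tT O).obj X).map (K.iCycles n) ≫ ((tT O).map f).app (K.X n)) := mono_comp _ _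
  exact mono_of_mono_fac (((tT O).map f).naturality (K.iCycles n)).symm

/-- Tensoring over the localised site with a restriction. -/
noncomputable abbrev tR (O : Sheaf J CommRingCat.{u}) (U : C) :
    ModSite.Mod (O.over U) ⥤ ModSite.Mod O ⥤ ModSite.Mod (O.over U) :=
  ModSite.tensorBi (O.over U) ⋙ (Functor.whiskeringLeft _ _ _).obj (ModSite.restr O U)

instance additive_tR (U : C) : (tR O U).Additive where
  map_add {X Y f g} := NatTrans.ext (funext fun A => congrArg (fun t => NatTrans.app t ((ModSite.restr O U).obj A))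
    ((ModSite.tensorBi (O.over U)).map_add (f := f) (g := g)))

instance additive_tR_obj (U : C) (X : ModSite.Mod (O.over U)) : ((tR O U).obj X).Additive :=
  inferInstanceAs (ModSite.restr O U ⋙ (ModSite.tensorBi (O.over U)).obj X).Additive

instance hasMapBifunctor_tR (U : C) (F : CochainComplex (ModSite.Mod (O.over U)) ℤ)
    (G : CochainComplex (ModSite.Mod O) ℤ) :
    HomologicalComplex.HasMapBifunctor F G (tR O U) (ComplexShape.up ℤ) := fun _ => inferInstance

/-- Restrictions of K-flat complexes are K-flat. -/
theorem isKFlatFor_restr (U : C) {K : CochainComplex (ModSite.Mod O) ℤ} (hK : IsKFlatFor (tT O) K) :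
    IsKFlatFor (tT (O.over U)) (((ModSite.restr O U).mapHomologicalComplex (ComplexShape.up ℤ)).obj K) := by
  intro F hF
  haveI := DerCompLib.extZero_preservesFiniteLimits O U
  haveI : (ModSite.extZero O U).IsLeftAdjoint := (ModSite.extZeroAdj O U).isLeftAdjoint
  let E := (ModSite.extZero O U).mapHomologicalComplex (ComplexShape.up ℤ)
  let e : E.obj (tot (tR O U) F K) ≅
      tot (tT O) (E.obj F) (((𝟭 (ModSite.Mod O)).mapHomologicalComplex (ComplexShape.up ℤ)).obj K) :=
    mapTotIso (tR O U) (tT O) (ModSite.extZero O U) (𝟭 _) (ModSite.extZero O U)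
      (fun a b => projShObj a b) (fun f b => projShObj_natural_left b f)
      (fun a _ _ g => projShObj_natural_right a g) F K
  have hF' : (E.obj F).Acyclic := fun m => by
    have h := hF m
    rw [exactAt_iff] at h ⊢
    exact h.map (ModSite.extZero O U)
  have h := acyclic_of_iso' e.symm (hK _ hF')
  intro m
  have hm := h m
  rw [exactAt_iff] at hm
  have hS : ((tot (tR O U) F K).sc m).Exact := exact_of_exact_map_extZero _ hm
  exact ((tot (tR O U) F K).exactAt_iff m).2 hS

end Groth.Agent.SiteTen
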