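import Groth.Agent.SiteTen.LTensor
import Groth.Agent.SiteTen.KFlatMore
import Groth.Agent.DerCompLib.KoszulOrth

/-!
# Extension by zero and total tensor products
-/

set_option autoImplicit false
set_option backward.isDefEq.respectTransparency false

universe u

open CategoryTheory CategoryTheory.Limits Opposite HomologicalComplex
open Groth.Agent.DCat

attribute [local instance] HasDerivedCategory.standard

namespace Groth.Agent.SiteTen

variable {C : Type u} [SmallCategory C] {J : GrothendieckTopology C} {O : Sheaf J CommRingCat.{u}}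
  (U : C)

/-- The projection formula for total complexes. -/
noncomputable def extTotIso (N : CochainComplex (ModSite.Mod (O.over U)) ℤ)
    (P : CochainComplex (ModSite.Mod O) ℤ) :
    ((ModSite.extZero O U).mapHomologicalComplex (ComplexShape.up ℤ)).obj
        (tot (tT (O.over U)) N (((ModSite.restr O U).mapHomologicalComplex (ComplexShape.up ℤ)).obj P)) ≅
      tot (tT O) (((ModSite.extZero O U).mapHomologicalComplex (ComplexShape.up ℤ)).obj N) P :=
  haveI : (ModSite.extZero O U).IsLeftAdjoint := (ModSite.extZeroAdj O U).isLeftAdjoint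
  (mapTotIso (tR O U) (tT O) (ModSite.extZero O U) (𝟭 _) (ModSite.extZero O U)
    (fun a b => projShObj a b) (fun f b => projShObj_natural_left b f)
    (fun a _ _ g => projShObj_natural_right a g) N P :)

/-- Extensions by zero of K-flat complexes are K-flat. -/
theorem isKFlatFor_extZero {N : CochainComplex (ModSite.Mod (O.over U)) ℤ}
    (hN : IsKFlatFor (tT (O.over U)) N) :
    IsKFlatFor (tT O) (((ModSite.extZero O U).mapHomologicalComplex (ComplexShape.up ℤ)).obj N) := by
  intro M hM
  refine acyclic_of_iso' (totSymm _ _).symm (acyclic_of_iso' (extTotIso U N M) ?_)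
  haveI := DerCompLib.extZero_preservesFiniteLimits O U
  haveI : (ModSite.extZero O U).IsLeftAdjoint := (ModSite.extZeroAdj O U).isLeftAdjoint
  have hM' : (((ModSite.restr O U).mapHomologicalComplex (ComplexShape.up ℤ)).obj M).Acyclic :=
    fun m => by
    have h := hM m
    rw [exactAt_iff] at h ⊢
    exact h.map (ModSite.restr O U)
  have h : (tot (tT (O.over U)) N
      (((ModSite.restr O U).mapHomologicalComplex (ComplexShape.up ℤ)).obj M)).Acyclic :=
    acyclic_of_iso' (totSymm _ _) (hN _ hM')
  intro m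
  have hm := h m
  rw [exactAt_iff] at hm ⊢
  exact hm.map (ModSite.extZero O U)

variable {U}

lemma totMap₁_comp {L M N : CochainComplex (ModSite.Mod O) ℤ} (f : L ⟶ M) (g : M ⟶ N)
    (E : CochainComplex (ModSite.Mod O) ℤ) :
    totMap₁ (tT O) (f ≫ g) E = totMap₁ (tT O) f E ≫ totMap₁ (tT O) g E := by
  ext n : 1
  refine mapBifunctor.hom_ext fun p q h => ?_
  simp [ι_mapBifunctorMap]

lemma totMap₁_zero (M N E : CochainComplex (ModSite.Mod O) ℤ) :
    totMap₁ (tT O) (0 : M ⟶ N) E = 0 := by
  ext n : 1
  refine mapBifunctor.hom_ext fun p q h => ?_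
  simp [ι_mapBifunctorMap]

lemma Q_totMap₁_eq_of_quotient_eq {M N : CochainComplex (ModSite.Mod O) ℤ} (f g : M ⟶ N)
    (E : CochainComplex (ModSite.Mod O) ℤ)
    (h : (HomotopyCategory.quotient (ModSite.Mod O) (ComplexShape.up ℤ)).map f =
      (HomotopyCategory.quotient (ModSite.Mod O) (ComplexShape.up ℤ)).map g) :
    DerivedCategory.Q.map (totMap₁ (tT O) f E) = DerivedCategory.Q.map (totMap₁ (tT O) g E) :=
  (cancel_epi ((tensorKhIso E).hom.app M)).1 (((tensorKhIso E).hom.naturality f).symm.trans
    ((congrArg (fun z => (tensorKh E).map z ≫ (tensorKhIso E).hom.app N) h).trans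
      ((tensorKhIso E).hom.naturality g)))

/-- Tensoring preserves vanishing in the derived category between K-flat complexes. -/
theorem Q_totMap₁_eq_zero {N N' : CochainComplex (ModSite.Mod O) ℤ} (hN : IsKFlatFor (tT O) N)
    (E : CochainComplex (ModSite.Mod O) ℤ) (f : N ⟶ N') (h : DerivedCategory.Q.map f = 0) :
    DerivedCategory.Q.map (totMap₁ (tT O) f E) = 0 := by
  let q := HomotopyCategory.quotient (ModSite.Mod O) (ComplexShape.up ℤ)
  let ι := DerivedCategory.quotientCompQhIso (ModSite.Mod O)
  have h₁ : DerivedCategory.Qh.map (q.map f) = DerivedCategory.Qh.map 0 := by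
    rw [Functor.map_zero, ← cancel_mono (ι.hom.app N'), zero_comp]
    exact (ι.hom.naturality f).trans ((congrArg (_ ≫ ·) h).trans comp_zero)
  obtain ⟨X, t, ht, hf⟩ := (MorphismProperty.map_eq_iff_precomp DerivedCategory.Qh
    (HomotopyCategory.quasiIso (ModSite.Mod O) (ComplexShape.up ℤ)) _ _).1 h₁
  obtain ⟨X⟩ := X
  obtain ⟨t, rfl⟩ := q.map_surjective t
  obtain ⟨M, c, hM, -, hc, -⟩ := exists_kflat X
  haveI : QuasiIso t := (HomotopyCategory.quotient_map_mem_quasiIso_iff t).1 ht
  haveI := hc
  have he := Q_totMap₁_eq_of_quotient_eq ((c ≫ t) ≫ f) 0 E (by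
    rw [comp_zero] at hf
    rw [Functor.map_comp, Functor.map_comp, Category.assoc, hf, comp_zero, Functor.map_zero])
  haveI := quasiIso_tot₁ hM hN (c ≫ t) E
  rw [totMap₁_zero, Functor.map_zero, totMap₁_comp, Functor.map_comp] at he
  rw [← cancel_epi (DerivedCategory.Q.map (totMap₁ (tT O) (c ≫ t) E)), he, comp_zero]

/-- A scalar which vanishes on a K-flat complex in the derived category vanishes on its tensor products. -/
theorem smul_tot_eq_zero {N : CochainComplex (ModSite.Mod O) ℤ} (hN : IsKFlatFor (tT O) N)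
    (E : CochainComplex (ModSite.Mod O) ℤ) (r : DerComp.GSec O)
    (h : r • 𝟙 (DerivedCategory.Q.obj N) = 0) :
    r • 𝟙 (DerivedCategory.Q.obj (tot (tT O) N E)) = 0 := by
  have h₀ := Q_totMap₁_eq_zero hN E (r • 𝟙 N) (by
    rw [Functor.map_smul, CategoryTheory.Functor.map_id]; exact h)
  rw [totMap₁_smul, Functor.map_smul, CategoryTheory.Functor.map_id] at h₀
  exact h₀

end Groth.Agent.SiteTen
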