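import Groth.Agent.SiteTen.Stable

/-!
# The tensor product of sheaves of modules

It is computed on presheaves, is symmetric, has the structure sheaf as a unit and preserves colimits.
-/

set_option autoImplicit false
set_option backward.isDefEq.respectTransparency false

universe v w u

open CategoryTheory CategoryTheory.Limits Opposite MonoidalCategory

namespace Groth.Agent.SiteTen

variable {C : Type u} [SmallCategory C] {J : GrothendieckTopology C}
  (O : Sheaf J CommRingCat.{u})

/-- `F ⊗ G` as sheafification of the presheaf tensor product. -/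
noncomputable abbrev ten (F G : ModSite.Mod O) : ModSite.Mod O :=
  ((ModSite.tensorBi O).obj F).obj G

/-- The unit of sheafification at `N`. -/
noncomputable abbrev η (N : ModSite.preMod O) :
    N ⟶ (ModSite.toPre O).obj ((ModSite.shPre O).obj N) :=
  (shAdj O).unit.app N

variable {O}

/-- The tensor product is symmetric. -/
noncomputable def tenFlipIso (F : ModSite.Mod O) :
    (ModSite.tensorBi O).flip.obj F ≅ (ModSite.tensorBi O).obj F :=
  NatIso.ofComponents
    (fun G => (ModSite.shPre O).mapIso (β_ ((ModSite.toPre O).obj G) ((ModSite.toPre O).obj F)))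
    fun {G G'} g => by
      change (ModSite.shPre O).map ((ModSite.toPre O).map g ▷ _) ≫ (ModSite.shPre O).map _ =
        (ModSite.shPre O).map _ ≫ (ModSite.shPre O).map (_ ◁ (ModSite.toPre O).map g)
      rw [← Functor.map_comp, ← Functor.map_comp]
      exact congrArg _ (BraidedCategory.braiding_naturality_left ((ModSite.toPre O).map g)
        ((ModSite.toPre O).obj F))

/-- Tensoring with a fixed presheaf then sheafifying factors through sheafification. -/
noncomputable def shTenIso (F : ModSite.Mod O) :
    tensorLeft ((ModSite.toPre O).obj F) ⋙ ModSite.shPre O ≅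
      ModSite.shPre O ⋙ (ModSite.tensorBi O).obj F :=
  NatIso.ofComponents
    (fun N => @asIso _ _ _ _ ((ModSite.shPre O).map (_ ◁ η O N))
      (isIso_shPre_whiskerLeft _ _ (isW_unit N)))
    fun {N N'} g => by
      change (ModSite.shPre O).map (_ ◁ g) ≫ (ModSite.shPre O).map _ =
        (ModSite.shPre O).map _ ≫ (ModSite.shPre O).map (_ ◁ (ModSite.toPre O).map ((ModSite.shPre O).map g))
      rw [← Functor.map_comp, ← Functor.map_comp, ← whiskerLeft_comp, ← whiskerLeft_comp]
      exact congrArg (fun t => (ModSite.shPre O).map (_ ◁ t)) ((shAdj O).unit.naturality g)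

/-- The tensor product of associated sheaves. -/
noncomputable def tenShIso (M N : ModSite.preMod O) :
    (ModSite.shPre O).obj (M ⊗ N) ≅ ten O ((ModSite.shPre O).obj M) ((ModSite.shPre O).obj N) :=
  @asIso _ _ _ _ ((ModSite.shPre O).map (η O M ▷ N)) (isIso_shPre_whiskerRight _ _ (isW_unit M)) ≪≫
    (shTenIso ((ModSite.shPre O).obj M)).app N

lemma tenShIso_hom (M N : ModSite.preMod O) :
    (tenShIso M N).hom = (ModSite.shPre O).map (η O M ⊗ₘ η O N) := by
  change (ModSite.shPre O).map _ ≫ (ModSite.shPre O).map _ = _
  rw [← Functor.map_comp, tensorHom_def]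

instance isIso_counit : IsIso (shAdj O).counit :=
  inferInstanceAs (IsIso (PresheafOfModules.sheafificationAdjunction (𝟙 (ModSite.ringSh O).obj)).counit)

/-- A functor out of sheaves of modules preserves the colimits that it preserves after sheafification. -/
theorem preservesColimitsOfShape_of_shPre {A : Type w} [Category.{v} A] {I : Type*} [Category I]
    [HasColimitsOfShape I (ModSite.preMod O)] (F : ModSite.Mod O ⥤ A)
    [PreservesColimitsOfShape I (ModSite.shPre O ⋙ F)] : PreservesColimitsOfShape I F where
  preservesColimit {K} := by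
    haveI : (ModSite.shPre O).IsLeftAdjoint := (shAdj O).isLeftAdjoint
    let hc := colimit.isColimit (K ⋙ ModSite.toPre O)
    have h₁ := isColimitOfPreserves (ModSite.shPre O) hc
    let e : (K ⋙ ModSite.toPre O) ⋙ ModSite.shPre O ≅ K :=
      Functor.associator _ _ _ ≪≫ Functor.isoWhiskerLeft K (asIso (shAdj O).counit) ≪≫ K.rightUnitor
    have h₁' := (IsColimit.precomposeInvEquiv e _).symm h₁
    refine preservesColimit_of_preserves_colimit_cocone h₁' ?_
    have h₂ := isColimitOfPreserves (ModSite.shPre O ⋙ F) hc
    exact (IsColimit.precomposeHomEquiv (Functor.isoWhiskerRight e F) _).1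
      (IsColimit.ofIsoColimit h₂ (Cocone.ext (Iso.refl _) fun j => by simp [e, Functor.map_comp]))

instance preservesColimits_tenLeft (F : ModSite.Mod O) :
    PreservesColimitsOfSize.{u, u} ((ModSite.tensorBi O).obj F) where
  preservesColimitsOfShape {I} _ := by
    haveI : (ModSite.shPre O).IsLeftAdjoint := (shAdj O).isLeftAdjoint
    haveI : PreservesColimitsOfShape I (ModSite.shPre O ⋙ (ModSite.tensorBi O).obj F) :=
      preservesColimitsOfShape_of_natIso (shTenIso F)
    exact preservesColimitsOfShape_of_shPre _

instance preservesColimits_tenRight (F : ModSite.Mod O) :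
    PreservesColimitsOfSize.{u, u} ((ModSite.tensorBi O).flip.obj F) :=
  preservesColimits_of_natIso (tenFlipIso F).symm

/-- The structure sheaf is a unit for the tensor product. -/
noncomputable def tenUnitIso (F : ModSite.Mod O) : ten O (ModSite.unit O) F ≅ F :=
  (ModSite.shPre O).mapIso (λ_ ((ModSite.toPre O).obj F)) ≪≫ (asIso (shAdj O).counit).app F

/-- The tensor product is associative. -/
noncomputable def tenAssocIso (F G H : ModSite.Mod O) :
    ten O (ten O F G) H ≅ ten O F (ten O G H) :=
  (@asIso _ _ _ _ ((ModSite.shPre O).map (η O (_ ⊗ _) ▷ _))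
      (isIso_shPre_whiskerRight _ _ (isW_unit _))).symm ≪≫
    (ModSite.shPre O).mapIso (α_ _ _ _) ≪≫ (shTenIso F).app _

end Groth.Agent.SiteTen
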