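import Groth.Agent.SiteTen.Over

/-!
# The projection formula for extension by zero
-/

set_option autoImplicit false
set_option backward.isDefEq.respectTransparency false

universe u

open CategoryTheory CategoryTheory.Limits Opposite MonoidalCategory

namespace Groth.Agent.SiteTen

variable {C : Type u} [SmallCategory C] {J : GrothendieckTopology C}

section Unit

variable (O : Sheaf J CommRingCat.{u})

/-- Tensoring with the structure sheaf is the identity functor. -/
noncomputable def tenUnitNatIso : (ModSite.tensorBi O).obj (ModSite.unit O) ≅ 𝟭 _ :=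
  NatIso.ofComponents (fun F => tenUnitIso F) fun {F G} f => by
    change (ModSite.shPre O).map (_ ◁ (ModSite.toPre O).map f) ≫ (ModSite.shPre O).map _ ≫ _ =
      ((ModSite.shPre O).map _ ≫ (shAdj O).counit.app F) ≫ f
    refine ((Category.assoc _ _ _).symm.trans (congrArg (· ≫ _)
      (((ModSite.shPre O).map_comp _ _).symm.trans ((congrArg _
        (leftUnitor_naturality ((ModSite.toPre O).map f))).trans
          ((ModSite.shPre O).map_comp _ _))))).trans ?_
    rw [Category.assoc, Category.assoc]
    exact congrArg _ ((shAdj O).counit.naturality f)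

end Unit

variable {O : Sheaf J CommRingCat.{u}} {U : C}

/-- Sheafified tensor products only see the sheafification of the left factor. -/
noncomputable def shTenRightIso (F : ModSite.Mod O) :
    tensorRight ((ModSite.toPre O).obj F) ⋙ ModSite.shPre O ≅
      ModSite.shPre O ⋙ (ModSite.tensorBi O).flip.obj F :=
  NatIso.ofComponents
    (fun N => @asIso _ _ _ _ ((ModSite.shPre O).map (η O N ▷ _))
      (isIso_shPre_whiskerRight _ _ (isW_unit N)))
    fun {N N'} g => by
      change (ModSite.shPre O).map (g ▷ _) ≫ (ModSite.shPre O).map _ =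
        (ModSite.shPre O).map _ ≫ (ModSite.shPre O).map ((ModSite.toPre O).map ((ModSite.shPre O).map g) ▷ _)
      rw [← Functor.map_comp, ← Functor.map_comp, ← comp_whiskerRight, ← comp_whiskerRight]
      exact congrArg (fun t => (ModSite.shPre O).map (t ▷ _)) ((shAdj O).unit.naturality g)

lemma sq4 {D : Type*} [Category D] {A₁ A₂ A₃ A₄ A₅ B₁ B₂ B₃ B₄ B₅ : D} {a₁ : A₁ ⟶ B₁}
    {a₂ : A₂ ⟶ B₂} {a₃ : A₃ ⟶ B₃} {a₄ : A₄ ⟶ B₄} {a₅ : A₅ ⟶ B₅} {i₁ : A₁ ⟶ A₂} {i₂ : A₂ ⟶ A₃}
    {i₃ : A₃ ⟶ A₄} {i₄ : A₄ ⟶ A₅} {j₁ : B₁ ⟶ B₂} {j₂ : B₂ ⟶ B₃} {j₃ : B₃ ⟶ B₄} {j₄ : B₄ ⟶ B₅}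
    (h₁ : a₁ ≫ j₁ = i₁ ≫ a₂) (h₂ : a₂ ≫ j₂ = i₂ ≫ a₃) (h₃ : a₃ ≫ j₃ = i₃ ≫ a₄)
    (h₄ : a₄ ≫ j₄ = i₄ ≫ a₅) :
    a₁ ≫ j₁ ≫ j₂ ≫ j₃ ≫ j₄ = (i₁ ≫ i₂ ≫ i₃ ≫ i₄) ≫ a₅ := by
  simp [reassoc_of% h₁, reassoc_of% h₂, reassoc_of% h₃, h₄]

/-- The components of the projection formula. -/
noncomputable def projShObj (G : ModSite.Mod (O.over U)) (N : ModSite.Mod O) :
    (ModSite.extZero O U).obj (((ModSite.tensorBi (O.over U)).obj G).obj ((ModSite.restr O U).obj N)) ≅
      ((ModSite.tensorBi O).obj ((ModSite.extZero O U).obj G)).obj N :=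
  ((extShIso O U).app ((ModSite.toPre (O.over U)).obj G ⊗
      (preR O U).obj ((ModSite.toPre O).obj N))).symm ≪≫
    (ModSite.shPre O).mapIso (projIso _ _) ≪≫ (shTenRightIso N).app _ ≪≫
      ((ModSite.tensorBi O).mapIso ((extZeroIso O U).app G)).app N

lemma projShObj_natural_left (N : ModSite.Mod O) {G G' : ModSite.Mod (O.over U)} (g : G ⟶ G') :
    (ModSite.extZero O U).map
        (((ModSite.tensorBi (O.over U)).map g).app ((ModSite.restr O U).obj N)) ≫
        (projShObj G' N).hom =
      (projShObj G N).hom ≫ ((ModSite.tensorBi O).map ((ModSite.extZero O U).map g)).app N :=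
  sq4
    ((extShIso O U).inv.naturality ((ModSite.toPre (O.over U)).map g ▷
        (preR O U).obj ((ModSite.toPre O).obj N)))
    (((ModSite.shPre O).map_comp _ _).symm.trans ((congrArg (ModSite.shPre O).map
      (projHom_natural_left ((ModSite.toPre O).obj N) ((ModSite.toPre (O.over U)).map g))).trans
        ((ModSite.shPre O).map_comp _ _)))
    ((shTenRightIso N).hom.naturality ((preExt O U).map ((ModSite.toPre (O.over U)).map g)))
    ((((ModSite.tensorBi O).flip.obj N).map_comp _ _).symm.trans
      ((congrArg ((ModSite.tensorBi O).flip.obj N).map ((extZeroIso O U).hom.naturality g)).trans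
        (((ModSite.tensorBi O).flip.obj N).map_comp _ _)))

lemma projShObj_natural_right (G : ModSite.Mod (O.over U)) {N N' : ModSite.Mod O} (f : N ⟶ N') :
    (ModSite.extZero O U).map
        (((ModSite.tensorBi (O.over U)).obj G).map ((ModSite.restr O U).map f)) ≫
        (projShObj G N').hom =
      (projShObj G N).hom ≫ ((ModSite.tensorBi O).obj ((ModSite.extZero O U).obj G)).map f :=
  sq4
    ((extShIso O U).inv.naturality ((ModSite.toPre (O.over U)).obj G ◁
      (preR O U).map ((ModSite.toPre O).map f)))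
    (((ModSite.shPre O).map_comp _ _).symm.trans ((congrArg (ModSite.shPre O).map
      (projHom_natural_right ((ModSite.toPre (O.over U)).obj G) ((ModSite.toPre O).map f))).trans
        ((ModSite.shPre O).map_comp _ _)))
    (((ModSite.shPre O).map_comp _ _).symm.trans
      ((congrArg (ModSite.shPre O).map (whisker_exchange _ _)).trans
        ((ModSite.shPre O).map_comp _ _)))
    (((ModSite.tensorBi O).map ((extZeroIso O U).hom.app G)).naturality f)

/-- The projection formula, natural in the module on the localised site. -/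
noncomputable def projShIso (N : ModSite.Mod O) :
    (ModSite.tensorBi (O.over U)).flip.obj ((ModSite.restr O U).obj N) ⋙ ModSite.extZero O U ≅
      ModSite.extZero O U ⋙ (ModSite.tensorBi O).flip.obj N :=
  NatIso.ofComponents (fun G => projShObj G N) fun g => projShObj_natural_left N g

/-- The projection formula, natural in the module on the whole site. -/
noncomputable def projShRightIso (G : ModSite.Mod (O.over U)) :
    ModSite.restr O U ⋙ (ModSite.tensorBi (O.over U)).obj G ⋙ ModSite.extZero O U ≅
      (ModSite.tensorBi O).obj ((ModSite.extZero O U).obj G) :=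
  NatIso.ofComponents (fun N => projShObj G N) fun f => projShObj_natural_right G f

/-- Tensoring with a free module on `U` is restriction followed by extension by zero. -/
noncomputable def tenFreeOnIso (U : C) :
    (ModSite.tensorBi O).obj (ModSite.freeOn O U) ≅ ModSite.restr O U ⋙ ModSite.extZero O U :=
  (projShRightIso (ModSite.unit (O.over U))).symm ≪≫
    Functor.isoWhiskerLeft (ModSite.restr O U)
      (Functor.isoWhiskerRight (tenUnitNatIso (O.over U)) _ ≪≫ Functor.leftUnitor _)

end Groth.Agent.SiteTen
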