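import Groth.Agent.SiteTen.Proj
import Groth.Agent.DerCompLib.RestrAdj
import Groth.Agent.DCat.TotKFlat
import Mathlib.Algebra.Homology.ShortComplex.ExactFunctor
import Mathlib.CategoryTheory.Abelian.Refinements
import Mathlib.CategoryTheory.Abelian.GrothendieckAxioms.Colim

/-!
# Flat sheaves of modules on a ringed site

A module is flat as soon as tensoring with it preserves monomorphisms.  Free modules on objects are flat,
every module is a quotient of a flat one, and short exact sequences with flat cokernel stay exact after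
tensoring.
-/

set_option autoImplicit false
set_option backward.isDefEq.respectTransparency false

universe v u

open CategoryTheory CategoryTheory.Limits Opposite MonoidalCategory

namespace Groth.Agent.SiteTen

variable {C : Type u} [SmallCategory C] {J : GrothendieckTopology C}
  {O : Sheaf J CommRingCat.{u}}

instance ab4 : AB4OfSize.{u} (ModSite.Mod O) :=
  haveI : HasFiniteBiproducts (ModSite.Mod O) := Abelian.hasFiniteBiproducts
  AB4.of_AB5 (ModSite.Mod O)

instance countableAB4 : CountableAB4 (ModSite.Mod O) :=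
  inferInstance

instance additive_flip (F : ModSite.Mod O) : ((ModSite.tensorBi O).flip.obj F).Additive where
  map_add {X Y f g} := congrArg (fun t => NatTrans.app t F) ((ModSite.tensorBi O).map_add (f := f) (g := g))

/-- Tensoring with `F` is right exact. -/
instance preservesFiniteColimits_tenRight (F : ModSite.Mod O) :
    PreservesFiniteColimits ((ModSite.tensorBi O).flip.obj F) :=
  PreservesColimits.preservesFiniteColimits _

instance preservesFiniteColimits_tenLeft (F : ModSite.Mod O) :
    PreservesFiniteColimits ((ModSite.tensorBi O).obj F) :=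
  PreservesColimits.preservesFiniteColimits _

/-- Flatness means that monomorphisms are preserved. -/
theorem isFlat_of_preservesMono {F : ModSite.Mod O}
    (h : ∀ ⦃X Y : ModSite.Mod O⦄ (f : X ⟶ Y), Mono f → Mono (((ModSite.tensorBi O).flip.obj F).map f)) :
    ModSite.IsFlat F := by
  haveI : ((ModSite.tensorBi O).flip.obj F).PreservesMonomorphisms := ⟨fun f _ => h f inferInstance⟩
  haveI : ((ModSite.tensorBi O).flip.obj F).PreservesHomology :=
    Functor.preservesHomology_of_preservesMonos_and_cokernels _
  exact ⟨Functor.preservesFiniteLimits_of_preservesHomology _, inferInstance⟩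

lemma mono_flip_map {F : ModSite.Mod O} (hF : ModSite.IsFlat F) {X Y : ModSite.Mod O} (f : X ⟶ Y)
    [Mono f] : Mono (((ModSite.tensorBi O).flip.obj F).map f) := by
  haveI := hF.1
  infer_instance

lemma mono_tenLeft_map {F : ModSite.Mod O} (hF : ModSite.IsFlat F) {X Y : ModSite.Mod O} (f : X ⟶ Y)
    [Mono f] : Mono (((ModSite.tensorBi O).obj F).map f) := by
  haveI := mono_flip_map hF f
  rw [← NatIso.naturality_1 (tenFlipIso F) f]
  infer_instance

/-- Flatness is invariant under isomorphism. -/
theorem isFlat_of_iso {F F' : ModSite.Mod O} (e : F ≅ F') (hF : ModSite.IsFlat F) : ModSite.IsFlat F' :=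
  isFlat_of_preservesMono fun X Y f _ => by
    haveI := mono_flip_map hF f
    rw [← NatIso.naturality_1 ((ModSite.tensorBi O).flip.mapIso e) f]
    infer_instance

/-- Tensor functors of exact ones. -/
theorem isFlat_of_natIso {F : ModSite.Mod O} {Φ : ModSite.Mod O ⥤ ModSite.Mod O}
    (e : (ModSite.tensorBi O).obj F ≅ Φ) (hΦ : ∀ ⦃X Y : ModSite.Mod O⦄ (f : X ⟶ Y), Mono f → Mono (Φ.map f)) :
    ModSite.IsFlat F :=
  isFlat_of_preservesMono fun X Y f hf => by
    haveI := hΦ f hf
    rw [← NatIso.naturality_1 (tenFlipIso F ≪≫ e).symm f]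
    infer_instance

/-- The structure sheaf is flat. -/
theorem isFlat_unit (O : Sheaf J CommRingCat.{u}) : ModSite.IsFlat (ModSite.unit O) :=
  isFlat_of_natIso (tenUnitNatIso O) fun _ _ _ h => h

/-- Extensions by zero of flat modules are flat. -/
theorem isFlat_extZero (U : C) {M : ModSite.Mod (O.over U)} (hM : ModSite.IsFlat M) :
    ModSite.IsFlat ((ModSite.extZero O U).obj M) :=
  isFlat_of_natIso (projShRightIso M).symm fun X Y f _ => by
    haveI : Mono ((ModSite.restr O U).map f) :=
      haveI : (ModSite.restr O U).IsRightAdjoint := (ModSite.extZeroAdj O U).isRightAdjoint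
      inferInstance
    haveI := mono_tenLeft_map hM ((ModSite.restr O U).map f)
    haveI := DerCompLib.extZero_preservesFiniteLimits O U
    change Mono ((ModSite.extZero O U).map _)
    infer_instance

/-- Free modules on objects are flat. -/
theorem isFlat_freeOn (U : C) : ModSite.IsFlat (ModSite.freeOn O U) :=
  isFlat_extZero U (isFlat_unit (O.over U))

lemma mono_tensorMap_colimit {K : Type v} [SmallCategory K] [HasColimitsOfShape K (ModSite.Mod O)]
    [HasExactColimitsOfShape K (ModSite.Mod O)] {D : K ⥤ ModSite.Mod O} {c : Cocone D} (hc : IsColimit c)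
    {X Y : ModSite.Mod O} [PreservesColimitsOfShape K ((ModSite.tensorBi O).obj X)]
    [PreservesColimitsOfShape K ((ModSite.tensorBi O).obj Y)] (f : X ⟶ Y)
    (h : ∀ j, Mono (((ModSite.tensorBi O).map f).app (D.obj j))) :
    Mono (((ModSite.tensorBi O).map f).app c.pt) := by
  let φ := Functor.whiskerLeft D ((ModSite.tensorBi O).map f)
  haveI : ∀ j, Mono (φ.app j) := h
  haveI : Mono φ := NatTrans.mono_of_mono_app φ
  exact colim.map_mono' φ (isColimitOfPreserves ((ModSite.tensorBi O).obj X) hc)
    (isColimitOfPreserves ((ModSite.tensorBi O).obj Y) hc) _ fun j =>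
      ((ModSite.tensorBi O).map f).naturality (c.ι.app j)

/-- Colimits of flat modules along shapes with exact colimits are flat. -/
theorem isFlat_of_colimit {K : Type v} [SmallCategory K] [HasColimitsOfShape K (ModSite.Mod O)]
    [HasExactColimitsOfShape K (ModSite.Mod O)]
    [∀ X, PreservesColimitsOfShape K ((ModSite.tensorBi O).obj X)]
    {D : K ⥤ ModSite.Mod O} {c : Cocone D} (hc : IsColimit c) (h : ∀ j, ModSite.IsFlat (D.obj j)) :
    ModSite.IsFlat c.pt :=
  isFlat_of_preservesMono fun X Y f _ => mono_tensorMap_colimit hc f fun j => mono_flip_map (h j) f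

/-- Coproducts of flat modules are flat. -/
theorem isFlat_cofan {ι : Type u} {F : ι → ModSite.Mod O} {c : Cofan F} (hc : IsColimit c)
    (h : ∀ i, ModSite.IsFlat (F i)) : ModSite.IsFlat c.pt :=
  isFlat_of_colimit hc fun j => h j.as

/-- Every module is a quotient of a flat one. -/
theorem exists_flat_cover (M : ModSite.Mod O) :
    ∃ (F : ModSite.Mod O) (p : F ⟶ M), Epi p ∧ ModSite.IsFlat F := by
  let T := Σ U : C, DerCompLib.Sec M U
  let F : T → ModSite.Mod O := fun t => ModSite.freeOn O t.1
  refine ⟨∐ F, Sigma.desc fun t => (DerCompLib.secEquiv t.1 M).symm t.2,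
    DerCompLib.epi_of_surjective_sec _ fun V x => ?_,
    isFlat_cofan (coproductIsCoproduct F) fun t => isFlat_freeOn t.1⟩
  refine ⟨DerCompLib.secEquiv V _ (Sigma.ι F ⟨V, x⟩), ?_⟩
  rw [← DerCompLib.secEquiv_comp, Sigma.ι_desc, AddEquiv.apply_symm_apply]

/-- Short exact sequences with flat cokernel stay short exact after tensoring. -/
theorem shortExact_tensor {S : ShortComplex (ModSite.Mod O)} (hS : S.ShortExact)
    (h₃ : ModSite.IsFlat S.X₃) (G : ModSite.Mod O) :
    (S.map ((ModSite.tensorBi O).obj G)).ShortExact := by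
  haveI := hS.mono_f
  haveI := hS.epi_g
  let T := ModSite.tensorBi O
  have hex : ∀ A, (S.map (T.obj A)).Exact := fun A => by
    have h := ((Functor.preservesFiniteColimits_tfae (T.obj A)).out 3 0)
    exact (h.mp (preservesFiniteColimits_tenLeft A) S hS).1
  suffices Mono ((T.obj G).map S.f) from
    { exact := hex G
      mono_f := this
      epi_g := inferInstanceAs (Epi ((T.obj G).map S.g)) }
  obtain ⟨P, p, hp, hP⟩ := exists_flat_cover G
  let R : ShortComplex (ModSite.Mod O) := ShortComplex.mk (kernel.ι p) p (kernel.condition p)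
  have hR : R.Exact := ShortComplex.exact_of_f_is_kernel R (kernelIsKernel p)
  have hRse : R.ShortExact := { exact := hR }
  refine Preadditive.mono_of_cancel_zero _ fun {A} x hx => ?_
  haveI : Epi ((T.map p).app S.X₁) := inferInstanceAs (Epi ((T.flip.obj S.X₁).map p))
  obtain ⟨A₁, π₁, hπ₁, y, hy⟩ := surjective_up_to_refinements_of_epi ((T.map p).app S.X₁) x
  have hz : (y ≫ (T.obj P).map S.f) ≫ (T.map p).app S.X₂ = 0 := by
    rw [Category.assoc, (T.map p).naturality S.f, ← Category.assoc, ← hy, Category.assoc, hx, comp_zero]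
  have hexR : ∀ B, (R.map (T.flip.obj B)).Exact := fun B => by
    have h := ((Functor.preservesFiniteColimits_tfae (T.flip.obj B)).out 3 0)
    exact (h.mp (preservesFiniteColimits_tenRight B) R hRse).1
  obtain ⟨A₂, π₂, hπ₂, z, hz'⟩ := (hexR S.X₂).exact_up_to_refinements (y ≫ (T.obj P).map S.f) hz
  have hz0 : z ≫ (T.obj (kernel p)).map S.g = 0 := by
    haveI : Mono ((T.map (kernel.ι p)).app S.X₃) := mono_flip_map h₃ (kernel.ι p)
    rw [← cancel_mono ((T.map (kernel.ι p)).app S.X₃), zero_comp, Category.assoc,
      (T.map (kernel.ι p)).naturality S.g, ← Category.assoc]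
    refine (congrArg (· ≫ _) hz'.symm).trans ?_
    rw [Category.assoc, Category.assoc, ← Functor.map_comp, S.zero, Functor.map_zero, comp_zero,
      comp_zero]
  obtain ⟨A₃, π₃, hπ₃, w, hw⟩ := (hex (kernel p)).exact_up_to_refinements z hz0
  haveI : Mono ((T.obj P).map S.f) := mono_tenLeft_map hP S.f
  have hy' : π₃ ≫ π₂ ≫ y = w ≫ (T.map (kernel.ι p)).app S.X₁ := by
    rw [← cancel_mono ((T.obj P).map S.f), Category.assoc, Category.assoc, Category.assoc,
      ← (T.map (kernel.ι p)).naturality S.f, ← Category.assoc w]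
    exact (congrArg (π₃ ≫ ·) hz').trans ((Category.assoc _ _ _).symm.trans (congrArg (· ≫ _) hw))
  have hzero : (π₃ ≫ π₂ ≫ π₁) ≫ x = 0 := by
    rw [Category.assoc, Category.assoc, hy, ← Category.assoc π₂, ← Category.assoc π₃, hy',
      Category.assoc, ← NatTrans.comp_app, ← Functor.map_comp, kernel.condition, Functor.map_zero,
      zero_app, comp_zero]
  exact (cancel_epi (π₃ ≫ π₂ ≫ π₁)).1 (hzero.trans comp_zero.symm)

/-- The flipped form of `shortExact_tensor`. -/
theorem shortExact_tensorRight {S : ShortComplex (ModSite.Mod O)} (hS : S.ShortExact)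
    (h₃ : ModSite.IsFlat S.X₃) (G : ModSite.Mod O) :
    (S.map ((ModSite.tensorBi O).flip.obj G)).ShortExact :=
  ShortComplex.shortExact_of_iso (S.mapNatIso (tenFlipIso G)).symm (shortExact_tensor hS h₃ G)

/-- Extensions of flat modules are flat. -/
theorem isFlat_of_extension {S : ShortComplex (ModSite.Mod O)} (hS : S.ShortExact)
    (h₁ : ModSite.IsFlat S.X₁) (h₃ : ModSite.IsFlat S.X₃) : ModSite.IsFlat S.X₂ :=
  isFlat_of_preservesMono fun X Y f _ => by
    let φ := S.mapNatTrans ((ModSite.tensorBi O).map f)
    haveI : Mono φ.τ₁ := mono_flip_map h₁ f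
    haveI : Mono φ.τ₃ := mono_flip_map h₃ f
    haveI := (shortExact_tensor hS h₃ X).mono_f
    haveI := (shortExact_tensor hS h₃ Y).mono_f
    exact ShortComplex.mono_τ₂_of_exact_of_mono φ (shortExact_tensor hS h₃ X).exact

/-- Kernels of epimorphisms between flat modules are flat. -/
theorem isFlat_kernel {S : ShortComplex (ModSite.Mod O)} (hS : S.ShortExact)
    (h₂ : ModSite.IsFlat S.X₂) (h₃ : ModSite.IsFlat S.X₃) : ModSite.IsFlat S.X₁ :=
  isFlat_of_preservesMono fun X Y f _ => by
    haveI : Mono (((ModSite.tensorBi O).obj X).map S.f) := (shortExact_tensor hS h₃ X).mono_f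
    haveI : Mono (((ModSite.tensorBi O).map f).app S.X₂) := mono_flip_map h₂ f
    change Mono (((ModSite.tensorBi O).map f).app S.X₁)
    haveI : Mono (((ModSite.tensorBi O).obj X).map S.f ≫ ((ModSite.tensorBi O).map f).app S.X₂) :=
      mono_comp _ _
    exact mono_of_mono_fac (((ModSite.tensorBi O).map f).naturality S.f).symm

end Groth.Agent.SiteTen
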