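import Groth.Agent.SiteTen.RHomSite
import Groth.Prelude.Def_WeakSerre
import Groth.Prelude.Def_SiteCmp
import Mathlib.Algebra.Homology.DerivedCategory.SingleTriangle

/-!
# Cohomology sheaves of `RHom` out of a complex bounded above, by dévissage

`R` is a weak Serre class, `Q` a class of modules each of which is a quotient of a finite free module with
kernel in `Q`. If the cohomology of `X` is in `Q` and bounded above, and that of `L` is in `R` and bounded
below, the cohomology sheaves of `RHom(X, L)` are in `R`.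
-/

set_option autoImplicit false
set_option backward.isDefEq.respectTransparency false
set_option linter.style.haveILetI false
set_option linter.unusedVariables false

universe u

open CategoryTheory CategoryTheory.Limits CategoryTheory.Pretriangulated Opposite HomologicalComplex
open Groth.Agent.DCat

attribute [local instance] HasDerivedCategory.standard

namespace Groth.Agent.SiteTen

variable {C : Type u} [SmallCategory C] {J : GrothendieckTopology C} {O : Sheaf J CommRingCat.{u}}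

local notation "D" => DerivedCategory (ModSite.Mod O)
local notation "t₀" => (DerivedCategory.TStructure.t : CategoryTheory.Triangulated.TStructure (DerivedCategory (ModSite.Mod O)))
local notation "S₀" => DerivedCategory.singleFunctor (ModSite.Mod O) 0

/-- `H^i RHom(X, L)` has the property `P`, for any model of `X`. -/
def RHomVal (P : ObjectProperty (ModSite.Mod O)) (X L : D) (i : ℤ) : Prop :=
  ∀ (K : CochainComplex (ModSite.Mod O) ℤ) (_ : ModSite.HasLTensorCx K) (_ : DerComp.HasRHom K),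
    (DerivedCategory.Q.obj K ≅ X) → P (SiteCmp.HMod ((DerComp.RHom K).obj L) i)

/-- Maps from members of `R` have their kernels in `R`. -/
def KerIn (R : ObjectProperty (ModSite.Mod O)) : ObjectProperty (ModSite.Mod O) :=
  fun H => ∀ (A : ModSite.Mod O) (φ : A ⟶ H), R A → R (kernel φ)

variable (R : ObjectProperty (ModSite.Mod O)) [WSerre.IsWeakSerre R]

instance : (KerIn R).IsClosedUnderIsomorphisms where
  of_iso {H H'} e h := fun A φ hA =>
    R.prop_of_iso (kernelCompMono φ e.inv) (h A (φ ≫ e.inv) hA)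

theorem kerIn_of_prop {H : ModSite.Mod O} (h : R H) : KerIn R H := fun _ φ hA => R.prop_kernel φ hA h

theorem prop_of_five (S : ComposableArrows (ModSite.Mod O) 4) (hS : S.Exact) (h₀ : R (S.obj' 0))
    (h₁ : R (S.obj' 1)) (h₃ : R (S.obj' 3)) (h₄ : KerIn R (S.obj' 4)) : R (S.obj' 2) := by
  have e₁ := hS.exact 0
  have e₂ := hS.exact 1
  have e₃ := hS.exact 2
  let f₁ := S.map' 0 1
  let f₂ := S.map' 1 2
  let f₃ := S.map' 2 3
  let f₄ := S.map' 3 4
  have w₁ : f₁ ≫ f₂ = 0 := hS.toIsComplex.zero 0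
  have w₂ : f₂ ≫ f₃ = 0 := hS.toIsComplex.zero 1
  have w₃ : f₃ ≫ f₄ = 0 := hS.toIsComplex.zero 2
  let a : cokernel f₁ ⟶ S.obj' 2 := cokernel.desc f₁ f₂ w₁
  let b : S.obj' 2 ⟶ kernel f₄ := kernel.lift f₄ f₃ w₃
  haveI : Mono a := (ShortComplex.exact_iff_mono_cokernel_desc _).1 e₁
  haveI : Epi b := (ShortComplex.exact_iff_epi_kernel_lift _).1 e₃
  have w : a ≫ b = 0 := by
    rw [← cancel_epi (cokernel.π f₁), ← cancel_mono (kernel.ι f₄)]
    simp [a, b, w₂]
  refine R.prop_X₂_of_shortExact (S := ShortComplex.mk a b w) (ShortComplex.ShortExact.mk' ?_ inferInstance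
    inferInstance) (R.prop_cokernel f₁ h₀ h₁) (h₄ _ f₄ h₃)
  rw [ShortComplex.exact_iff_exact_up_to_refinements]
  intro T x hx
  have hx' : x ≫ f₃ = 0 := by
    have := hx =≫ kernel.ι f₄
    simpa [b] using this
  obtain ⟨T', π, hπ, y, hy⟩ := e₂.exact_up_to_refinements x hx'
  refine ⟨T', π, hπ, y ≫ cokernel.π f₁, hy.trans ?_⟩
  simp [a]
  rfl

theorem kerIn_of_five (S : ComposableArrows (ModSite.Mod O) 4) (hS : S.Exact) (h₀ : R (S.obj' 0))
    (h₁ : R (S.obj' 1)) (h₃ : R (S.obj' 3)) : KerIn R (S.obj' 2) := by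
  intro A φ hA
  let f₁ := S.map' 0 1
  let f₂ := S.map' 1 2
  let f₃ := S.map' 2 3
  have w₁ : f₁ ≫ f₂ = 0 := hS.toIsComplex.zero 0
  have w₂ : f₂ ≫ f₃ = 0 := hS.toIsComplex.zero 1
  let a : cokernel f₁ ⟶ S.obj' 2 := cokernel.desc f₁ f₂ w₁
  haveI : Mono a := (ShortComplex.exact_iff_mono_cokernel_desc _).1 (hS.exact 0)
  have hw : a ≫ f₃ = 0 := by
    rw [← cancel_epi (cokernel.π f₁)]
    simp [a, w₂]
  have hex : (ShortComplex.mk a f₃ hw).Exact := by
    rw [ShortComplex.exact_iff_exact_up_to_refinements]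
    intro T x hx
    obtain ⟨T', π, hπ, y, hy⟩ := (hS.exact 1).exact_up_to_refinements x hx
    refine ⟨T', π, hπ, y ≫ cokernel.π f₁, hy.trans ?_⟩
    simp [a]
    rfl
  let j := kernel.ι (φ ≫ f₃)
  let g : kernel (φ ≫ f₃) ⟶ cokernel f₁ := hex.lift (j ≫ φ) ((Category.assoc _ _ _).trans (kernel.condition _))
  have hg : g ≫ a = j ≫ φ := hex.lift_f _ _
  have h' := R.prop_kernel g (R.prop_kernel (φ ≫ f₃) hA h₃) (R.prop_cokernel f₁ h₀ h₁)
  let l : kernel φ ⟶ kernel (φ ≫ f₃) := kernel.lift _ (kernel.ι φ) (by rw [kernel.condition_assoc, zero_comp])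
  have hl : l ≫ g = 0 := by
    rw [← cancel_mono a, Category.assoc, hg, zero_comp, ← Category.assoc, kernel.lift_ι, kernel.condition]
  refine R.prop_of_iso ?_ h'
  exact
    { hom := kernel.lift φ (kernel.ι g ≫ j) (by rw [Category.assoc, ← hg, kernel.condition_assoc, zero_comp])
      inv := kernel.lift g l hl
      hom_inv_id := by
        rw [← cancel_mono (kernel.ι g), ← cancel_mono j]
        simp [l, j]
      inv_hom_id := by
        rw [← cancel_mono (kernel.ι φ)]
        simp [l, j] }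

variable {R}
variable {P : ObjectProperty (ModSite.Mod O)} [P.IsClosedUnderIsomorphisms]

theorem rhomVal_congr {X X' L L' : D} (e : X ≅ X') (e' : L ≅ L') {i : ℤ} (h : RHomVal P X L i) :
    RHomVal P X' L' i := fun K _ _ eK =>
  P.prop_of_iso ((DerivedCategory.homologyFunctor _ i).mapIso ((DerComp.RHom K).mapIso e'))
    (h K ‹_› ‹_› (eK ≪≫ e.symm))

omit [P.IsClosedUnderIsomorphisms] in
theorem rhomVal_mono {P' : ObjectProperty (ModSite.Mod O)} (hP : ∀ M, P' M → P M) {X L : D} {i : ℤ}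
    (h : RHomVal P' X L i) : RHomVal P X L i := fun K i₁ i₂ e => hP _ (h K i₁ i₂ e)

/-- `RHom(X[k], L) = RHom(X, L[-k])`. -/
theorem rhomVal_shift {X L : D} {i : ℤ} (k : ℤ) (h : RHomVal P X (L⟦-k⟧) i) : RHomVal P (X⟦k⟧) L i := by
  intro K _ _ eK
  obtain ⟨E, hE, -, ⟨eE⟩⟩ := exists_kflat_rep X
  haveI := hasLTensorCx E
  haveI := hasRHom E
  haveI := hasLTensorCx (E⟦k⟧)
  haveI := hasRHom (E⟦k⟧)
  obtain ⟨f⟩ := RHomLeft.flip_shift_generic (tT O) (ModSite.tensorCx O) rfl E k
  let c : DerivedCategory.Q ⋙ ModSite.LTensorCx (E⟦k⟧) ≅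
      DerivedCategory.Q ⋙ ModSite.LTensorCx E ⋙ shiftFunctor D k :=
    ltFac (hE.shift k) ≪≫ Functor.isoWhiskerRight f DerivedCategory.Q ≪≫ Functor.associator _ _ _ ≪≫
      Functor.isoWhiskerLeft _ (DerivedCategory.Q.commShiftIso k) ≪≫ (Functor.associator _ _ _).symm ≪≫
      Functor.isoWhiskerRight (ltFac hE).symm _ ≪≫ Functor.associator _ _ _
  let e : ModSite.LTensorCx (E⟦k⟧) ≅ ModSite.LTensorCx E ⋙ shiftFunctor D k :=
    Localization.liftNatIso DerivedCategory.Q (HomologicalComplex.quasiIso (ModSite.Mod O) (ComplexShape.up ℤ))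
      (DerivedCategory.Q ⋙ ModSite.LTensorCx (E⟦k⟧))
      (DerivedCategory.Q ⋙ ModSite.LTensorCx E ⋙ shiftFunctor D k) _ _ c
  let e₁ : DerComp.RHom (E⟦k⟧) ≅ shiftFunctor D (-k) ⋙ DerComp.RHom E :=
    ((DerComp.RHomAdj _).ofNatIsoLeft e).rightAdjointUniq
      ((DerComp.RHomAdj E).comp (shiftEquiv' D k (-k) (by omega)).toAdjunction)
  obtain ⟨e₂⟩ := nonempty_rhom_congr (E := E⟦k⟧) (E' := K)
    ((DerivedCategory.Q.commShiftIso k).app E ≪≫ (shiftFunctor D k).mapIso eE ≪≫ eK.symm)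
  exact P.prop_of_iso ((DerivedCategory.homologyFunctor _ i).mapIso ((e₁.app L).symm ≪≫ e₂.app L))
    (h E inferInstance inferInstance eE)

variable (R)

theorem prop_hmod_shift {L : D} {N : ℤ} (hL : ∀ j ≤ N, R (SiteCmp.HMod L j)) (k : ℤ) :
    ∀ j ≤ N - k, R (SiteCmp.HMod (L⟦k⟧) j) := fun j hj =>
  R.prop_of_iso (((DerivedCategory.homologyFunctor (ModSite.Mod O) 0).shiftIso k j (k + j) rfl).app L).symm
    (hL _ (by omega))

/-- Vanishing range. -/
theorem rhomVal_of_lt {X L : D} (b r : ℤ) [X.IsLE b] [L.IsGE r] {i : ℤ} (hi : i < r - b) : RHomVal R X L i := by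
  intro K _ _ eK
  haveI : (DerivedCategory.Q.obj K).IsLE b :=
    (t₀).isLE_of_iso eK.symm b
  haveI := isGE_rhom K b L r
  obtain ⟨Z, hZ, hRZ⟩ := R.exists_prop_of_containsZero
  exact R.prop_of_iso (hZ.iso (DerivedCategory.isZero_of_isGE ((DerComp.RHom K).obj L) (r - b) i hi)) hRZ

/-- The middle of a triangle in the first variable. -/
theorem rhomVal_middle {T : Triangle D} (hT : T ∈ distTriang _) (L : D) (i : ℤ)
    (h₀ : RHomVal R T.obj₁ (L⟦(-1 : ℤ)⟧) i) (h₁ : RHomVal R T.obj₃ L i) (h₃ : RHomVal R T.obj₁ L i) :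
    RHomVal (KerIn R) T.obj₂ L i ∧
      (RHomVal (KerIn R) T.obj₃ (L⟦(1 : ℤ)⟧) i → RHomVal R T.obj₂ L i) := by
  let A := DerivedCategory.Q.objPreimage T.obj₁
  let B := DerivedCategory.Q.objPreimage T.obj₃
  let eA := DerivedCategory.Q.objObjPreimageIso T.obj₁
  let eB := DerivedCategory.Q.objObjPreimageIso T.obj₃
  haveI := hasLTensorCx A
  haveI := hasRHom A
  haveI := hasLTensorCx B
  haveI := hasRHom B
  refine ⟨fun K _ _ eK => ?_, fun h₄ K _ _ eK => ?_⟩
  all_goals
    obtain ⟨S, hS, ⟨s₀⟩, ⟨s₁⟩, ⟨s₂⟩, ⟨s₃⟩, ⟨s₄⟩⟩ := exists_rhom_sequence K hT eK A B eA eB L i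
  · exact (KerIn R).prop_of_iso s₂ (kerIn_of_five R S hS (R.prop_of_iso s₀.symm (h₀ A inferInstance inferInstance eA))
      (R.prop_of_iso s₁.symm (h₁ B inferInstance inferInstance eB))
      (R.prop_of_iso s₃.symm (h₃ A inferInstance inferInstance eA)))
  · exact R.prop_of_iso s₂ (prop_of_five R S hS (R.prop_of_iso s₀.symm (h₀ A inferInstance inferInstance eA))
      (R.prop_of_iso s₁.symm (h₁ B inferInstance inferInstance eB))
      (R.prop_of_iso s₃.symm (h₃ A inferInstance inferInstance eA))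
      ((KerIn R).prop_of_iso s₄.symm (h₄ B inferInstance inferInstance eB)))

/-- Modules out of which `RHom` keeps the class, using the cohomology of the target in degrees `≤ i + 1` only. -/
def RGood : ObjectProperty (ModSite.Mod O) := fun M =>
  ∀ (L : D) (N : ℤ), (∀ j ≤ N, R (SiteCmp.HMod L j)) → ∀ i, i + 1 ≤ N → RHomVal R ((S₀).obj M) L i

theorem rgood_of_iso {M N : ModSite.Mod O} (e : M ≅ N) (h : RGood R M) : RGood R N := fun L n hL i hi =>
  rhomVal_congr ((S₀).mapIso e) (Iso.refl L) (h L n hL i hi)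

theorem rhomVal_unit {L : D} {i : ℤ} (hL : R (SiteCmp.HMod L i)) : RHomVal R ((S₀).obj (ModSite.unit O)) L i := by
  intro K _ _ eK
  let U₀ := (single (ModSite.Mod O) (ComplexShape.up ℤ) 0).obj (ModSite.unit O)
  haveI := hasLTensorCx U₀
  haveI := hasRHom U₀
  obtain ⟨e⟩ := nonempty_rhom_unit (O := O)
  obtain ⟨e'⟩ := nonempty_rhom_congr (E := K) (E' := U₀)
    (eK ≪≫ ((DerivedCategory.singleFunctorIsoCompQ (ModSite.Mod O) 0).app _))
  exact R.prop_of_iso ((DerivedCategory.homologyFunctor _ i).mapIso ((e'.app L) ≪≫ e.app L)).symm hL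

theorem rgood_free (I : Type u) [Finite I] : RGood R (SheafOfModules.free (R := ModSite.ringSh O) I) := by
  suffices h : ∀ n : ℕ, RGood R (∐ fun _ : Fin n => ModSite.unit O) by
    obtain ⟨n, ⟨q⟩⟩ := Finite.exists_equiv_fin I
    exact rgood_of_iso R (Sigma.whiskerEquiv q.symm fun _ => Iso.refl _) (h n)
  intro n
  induction n with
  | zero =>
    intro L N _ i _ K _ _ eK
    have hz : IsZero ((S₀).obj (∐ fun _ : Fin 0 => ModSite.unit O)) :=
      (S₀).map_isZero ((IsZero.iff_id_eq_zero _).2 (Sigma.hom_ext _ _ fun k => k.elim0))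
    obtain ⟨Z, hZ, hRZ⟩ := R.exists_prop_of_containsZero
    refine R.prop_of_iso (hZ.iso ((DerivedCategory.homologyFunctor _ i).map_isZero ?_)) hRZ
    refine (IsZero.iff_id_eq_zero _).2 (((DerComp.RHomAdj K).homEquiv _ L).symm.injective (IsZero.eq_of_src ?_ _ _))
    let Z₀ := (single (ModSite.Mod O) (ComplexShape.up ℤ) 0).obj (∐ fun _ : Fin 0 => ModSite.unit O)
    have hZ₀ : IsZero Z₀ := (single _ _ 0).map_isZero ((IsZero.iff_id_eq_zero _).2 (Sigma.hom_ext _ _ fun k => k.elim0))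
    obtain ⟨A, hA, -, ⟨eA⟩⟩ := exists_kflat_rep ((DerComp.RHom K).obj L)
    haveI := hasLTensorCx Z₀
    obtain ⟨a⟩ := nonempty_ltensor_congr (E := K) (E' := Z₀)
      ((hz.of_iso eK).iso (DerivedCategory.Q.map_isZero hZ₀))
    refine IsZero.of_iso ?_ (a.app _ ≪≫ (ModSite.LTensorCx Z₀).mapIso eA.symm ≪≫ ltensorIso Z₀ hA)
    exact DerivedCategory.Q.map_isZero (((tT O).map₂CochainComplex.obj A).map_isZero hZ₀)
  | succ n ih =>
    let f : (∐ fun _ : Fin n => ModSite.unit O) ⟶ ∐ fun _ : Fin (n + 1) => ModSite.unit O :=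
      Sigma.desc fun k => Sigma.ι (fun _ : Fin (n + 1) => ModSite.unit O) k.succ
    let g : (∐ fun _ : Fin (n + 1) => ModSite.unit O) ⟶ ModSite.unit O :=
      Sigma.desc (Fin.cases (𝟙 (ModSite.unit O)) fun _ => 0)
    let T : ShortComplex (ModSite.Mod O) := ShortComplex.mk f g (Sigma.hom_ext _ _ fun k => by simp [f, g])
    let r : T.X₂ ⟶ T.X₁ := Sigma.desc (Fin.cases (0 : ModSite.unit O ⟶ ∐ fun _ : Fin n => ModSite.unit O)
      fun k => Sigma.ι (fun _ : Fin n => ModSite.unit O) k)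
    let sp : T.Splitting :=
      { r := r
        s := Sigma.ι (fun _ : Fin (n + 1) => ModSite.unit O) 0
        f_r := Sigma.hom_ext _ _ fun k => by simp [T, f, r]
        s_g := by simp [T, g]
        id := Sigma.hom_ext _ _ fun k => by
          induction k using Fin.cases <;> simp [T, f, g, r] }
    intro L N hL i hi
    exact (rhomVal_middle R sp.shortExact.singleTriangle_distinguished L i
      (ih _ _ (prop_hmod_shift R hL _) i (by omega)) (rhomVal_unit R (hL i (by omega)))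
      (ih L N hL i hi)).2 (rhomVal_mono (fun _ => kerIn_of_prop R)
        (rhomVal_unit R (prop_hmod_shift R hL 1 i (by omega))))

variable {Q : ObjectProperty (ModSite.Mod O)}
  (hQ : ∀ M, Q M → ∃ (I : Type u) (_ : Finite I) (π : SheafOfModules.free (R := ModSite.ringSh O) I ⟶ M)
    (_ : Epi π), Q (kernel π))

include hQ in
/-- `RHom` out of a member of `Q`. -/
theorem rhomVal_of_cover (n : ℕ) : ∀ (M : ModSite.Mod O), Q M → ∀ (L : D) (r : ℤ), L.IsGE r →
    ∀ (N : ℤ), (∀ j ≤ N, R (SiteCmp.HMod L j)) → ∀ i, i < r + n → i + 1 ≤ N → RHomVal R ((S₀).obj M) L i := by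
  induction n with
  | zero =>
    intro M _ L r _ N _ i hi _
    haveI : ((S₀).obj M).IsLE 0 := inferInstance
    exact rhomVal_of_lt R 0 r (by omega)
  | succ n ih =>
    have step : ∀ (M : ModSite.Mod O), Q M → ∀ (L : D) (r : ℤ), L.IsGE r →
        ∀ (N : ℤ), (∀ j ≤ N, R (SiteCmp.HMod L j)) → ∀ i, i < r + (n + 1 : ℕ) → i + 1 ≤ N →
        RHomVal (KerIn R) ((S₀).obj M) L i ∧
          ((∀ (M' : ModSite.Mod O), Q M' → RHomVal (KerIn R) ((S₀).obj M') L i) →
            RHomVal R ((S₀).obj M) L i) := by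
      intro M hM L r _ N hL i hi hN
      obtain ⟨I, _, π, _, hK⟩ := hQ M hM
      let T : ShortComplex (ModSite.Mod O) := ShortComplex.mk (kernel.ι π) π (kernel.condition π)
      have hT : T.ShortExact := ShortComplex.ShortExact.mk' (ShortComplex.exact_of_f_is_kernel _ (kernelIsKernel π))
        inferInstance ‹Epi π›
      haveI : (L⟦(-1 : ℤ)⟧).IsGE (r + 1) := (t₀).isGE_shift L r (-1) (r + 1) (by omega)
      have h' := rhomVal_middle R (rot_of_distTriang _ hT.singleTriangle_distinguished) L i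
        (rgood_free R I _ _ (prop_hmod_shift R hL _) i (by omega))
        (rhomVal_shift (1 : ℤ) (ih _ hK (L⟦(-1 : ℤ)⟧) (r + 1) inferInstance _ (prop_hmod_shift R hL _) i (by omega)
          (by omega)))
        (rgood_free R I L N hL i hN)
      refine ⟨h'.1, fun hker => h'.2 (rhomVal_shift (1 : ℤ) ?_)⟩
      exact rhomVal_congr (Iso.refl _) ((shiftFunctorCompIsoId D (1 : ℤ) (-1) (by omega)).app L).symm (hker _ hK)
    intro M hM L r hr N hL i hi hN
    exact (step M hM L r hr N hL i hi hN).2 fun M' hM' => (step M' hM' L r hr N hL i hi hN).1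

/-- The top cohomology of an object bounded above. -/
theorem exists_top_triangle (X : D) (b : ℤ) [X.IsLE b] :
    ∃ T ∈ distTriang D, T.obj₁.IsLE (b - 1) ∧
      (∀ j, j ≤ b - 1 → Nonempty (SiteCmp.HMod T.obj₁ j ≅ SiteCmp.HMod X j)) ∧ Nonempty (T.obj₂ ≅ X) ∧
      Nonempty (T.obj₃ ≅ ((S₀).obj (SiteCmp.HMod X b))⟦(-b)⟧) := by
  obtain ⟨A, B, hA, hB, f, g, δ, hT⟩ := (t₀).exists_triangle X (b - 1) b (by omega)
  let H := DerivedCategory.homologyFunctor (ModSite.Mod O)
  haveI : A.IsLE (b - 1) := ⟨hA⟩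
  haveI : B.IsGE b := ⟨hB⟩
  have hgA : ∀ j, b - 1 < j → IsZero ((H j).obj A) := fun j hj => DerivedCategory.isZero_of_isLE A (b - 1) j hj
  have hgB : ∀ j, j < b → IsZero ((H j).obj B) := fun j hj => DerivedCategory.isZero_of_isGE B b j hj
  have isoA : ∀ j, j ≤ b - 1 → IsIso ((H j).map f) := fun j hj => by
    haveI : Mono ((H j).map f) := (DerivedCategory.HomologySequence.mono_homologyMap_mor₁_iff _ hT (j - 1) j (by omega)).2
      ((hgB (j - 1) (by omega)).eq_of_src _ _)
    haveI : Epi ((H j).map f) := (DerivedCategory.HomologySequence.epi_homologyMap_mor₁_iff _ hT j).2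
      ((hgB j (by omega)).eq_of_tgt _ _)
    exact isIso_of_mono_of_epi _
  haveI : IsIso ((H b).map g) := by
    haveI : Mono ((H b).map g) := (DerivedCategory.HomologySequence.mono_homologyMap_mor₂_iff _ hT b).2
      ((hgA b (by omega)).eq_of_src _ _)
    haveI : Epi ((H b).map g) := (DerivedCategory.HomologySequence.epi_homologyMap_mor₂_iff _ hT b (b + 1) (by omega)).2
      ((hgA (b + 1) (by omega)).eq_of_tgt _ _)
    exact isIso_of_mono_of_epi _
  haveI : B.IsLE b := by
    rw [DerivedCategory.isLE_iff]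
    intro j hj
    exact (DerivedCategory.HomologySequence.exact₃ _ hT j (j + 1) rfl).isZero_of_both_zeros
      ((DerivedCategory.isZero_of_isLE X b j hj).eq_of_src _ _) ((hgA (j + 1) (by omega)).eq_of_tgt _ _)
  obtain ⟨Y, ⟨eY⟩⟩ := DerivedCategory.exists_iso_singleFunctor_obj_of_isGE_of_isLE B b
  let F := CochainComplex.singleFunctors (ModSite.Mod O)
  let eY' : Y ≅ SiteCmp.HMod X b :=
    ((DerivedCategory.singleFunctorCompHomologyFunctorIso (ModSite.Mod O) b).app Y).symm ≪≫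
      (H b).mapIso eY.symm ≪≫ (asIso ((H b).map g)).symm
  exact ⟨_, hT, ‹_›, fun j hj => by
      haveI := isoA j hj
      exact ⟨asIso ((H j).map f)⟩, ⟨Iso.refl _⟩,
    ⟨eY ≪≫ (((DerivedCategory.singleFunctors (ModSite.Mod O)).shiftIso (-b) b 0 (by omega)).app Y).symm ≪≫
      (shiftFunctor D (-b)).mapIso ((S₀).mapIso eY')⟩⟩

include hQ in
/-- `RHom` out of an object bounded above with cohomology in `Q`. -/
theorem prop_hmod_rhom [Q.IsClosedUnderIsomorphisms] (hQ0 : ∀ M, IsZero M → Q M)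
    (K : CochainComplex (ModSite.Mod O) ℤ) [ModSite.HasLTensorCx K] [DerComp.HasRHom K]
    (hK : ∀ j, Q (SiteCmp.HMod (DerivedCategory.Q.obj K) j)) (b : ℤ) [(DerivedCategory.Q.obj K).IsLE b]
    (L : D) (r : ℤ) [L.IsGE r] (i N : ℤ) (hN : i + b + 2 ≤ N) (hL : ∀ j ≤ N, R (SiteCmp.HMod L j)) :
    R (SiteCmp.HMod ((DerComp.RHom K).obj L) i) := by
  suffices h : ∀ (n : ℕ) (X : D) (b : ℤ), X.IsLE b → (∀ j, Q (SiteCmp.HMod X j)) →
      ∀ (L : D) (r : ℤ), L.IsGE r → ∀ (N : ℤ), (∀ j ≤ N, R (SiteCmp.HMod L j)) →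
      ∀ i, i < r - b + n → i + b + 2 ≤ N → RHomVal R X L i from
    h (i - r + b + 1).toNat _ b inferInstance hK L r inferInstance N hL i (by omega) hN K inferInstance inferInstance
      (Iso.refl _)
  intro n
  induction n with
  | zero =>
    intro X b _ _ L r _ N _ i hi _
    exact rhomVal_of_lt R b r (by omega)
  | succ n ih =>
    intro X b _ hX L r _ N hL i hi hiN
    obtain ⟨T, hT, hA, hH, ⟨e₂⟩, ⟨e₃⟩⟩ := exists_top_triangle X b
    haveI := hA
    have hQA : ∀ j, Q (SiteCmp.HMod T.obj₁ j) := fun j => by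
      by_cases hj : j ≤ b - 1
      · exact Q.prop_of_iso (hH j hj).some.symm (hX j)
      · exact hQ0 _ (DerivedCategory.isZero_of_isLE T.obj₁ (b - 1) j (by omega))
    have single : ∀ (L' : D) (r' : ℤ), L'.IsGE r' → ∀ (N' : ℤ), (∀ j ≤ N', R (SiteCmp.HMod L' j)) →
        i + b + 1 ≤ N' → RHomVal R T.obj₃ L' i := fun L' r' _ N' hL' hN' => by
      haveI : (L'⟦- -b⟧).IsGE (r' - b) := (t₀).isGE_shift L' r' (- -b) (r' - b) (by omega)
      exact rhomVal_congr e₃.symm (Iso.refl _) (rhomVal_shift (-b)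
        (rhomVal_of_cover R hQ (i - r' + b + 1).toNat _ (hX b) _ (r' - b) inferInstance
          _ (prop_hmod_shift R hL' _) i (by omega) (by omega)))
    haveI : (L⟦(-1 : ℤ)⟧).IsGE (r + 1) := (t₀).isGE_shift L r (-1) (r + 1) (by omega)
    haveI : (L⟦(1 : ℤ)⟧).IsGE (r - 1) := (t₀).isGE_shift L r 1 (r - 1) (by omega)
    exact rhomVal_congr e₂ (Iso.refl L) ((rhomVal_middle R hT L i
      (ih _ (b - 1) hA hQA _ (r + 1) inferInstance _ (prop_hmod_shift R hL _) i (by omega) (by omega))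
      (single L r inferInstance N hL (by omega))
      (ih _ (b - 1) hA hQA L r inferInstance N hL i (by omega) (by omega))).2
      (rhomVal_mono (fun _ => kerIn_of_prop R) (single _ (r - 1) inferInstance _ (prop_hmod_shift R hL _) (by omega))))

end Groth.Agent.SiteTen
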