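import Groth.Agent.SiteTen.Flat

/-!
# Extension by zero is faithful; restrictions and tensor products of flat modules are flat
-/

set_option autoImplicit false
set_option backward.isDefEq.respectTransparency false

universe u

open CategoryTheory CategoryTheory.Limits Opposite MonoidalCategory

namespace Groth.Agent.SiteTen

variable {C : Type u} [SmallCategory C] {J : GrothendieckTopology C}
  {O : Sheaf J CommRingCat.{u}} {U : C}

/-- The unit of `preExt ⊣ preR` is injective. -/
theorem mono_preAdj_unit (G : ModSite.preMod (O.over U)) : Mono ((preAdj O U).unit.app G) :=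
  PresheafOfModules.mono_of_injective fun X => by
    classical
    intro x y h
    have hi := DirectSum.of_injective
      (β := fun φ : X.unop.left ⟶ U => (G.obj (op (Over.mk φ)) : Type u)) X.unop.hom
    exact hi h

/-- Extension by zero reflects zero objects. -/
theorem isZero_of_isZero_extZero {G : ModSite.Mod (O.over U)}
    (h : IsZero ((ModSite.extZero O U).obj G)) : IsZero G := by
  let P := (ModSite.toPre (O.over U)).obj G
  have h₁ : IsZero ((ModSite.shPre O).obj ((preExt O U).obj P)) :=
    h.of_iso ((extZeroIso O U).app G)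
  haveI : (ModSite.restr O U).IsRightAdjoint := (ModSite.extZeroAdj O U).isRightAdjoint
  have h₂ : IsZero ((ModSite.shPre (O.over U)).obj ((preR O U).obj ((preExt O U).obj P))) :=
    ((ModSite.restr O U).map_isZero h₁).of_iso ((restrShIso O U).app _)
  haveI := mono_preAdj_unit P
  haveI : PreservesFiniteLimits (ModSite.shPre (O.over U)) :=
    inferInstanceAs (PreservesFiniteLimits (ModSite.sheafify (O.over U)))
  haveI : Mono ((ModSite.shPre (O.over U)).map ((preAdj O U).unit.app P)) := inferInstance
  exact (IsZero.of_mono ((ModSite.shPre (O.over U)).map ((preAdj O U).unit.app P)) h₂).of_iso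
    ((asIso (shAdj (O.over U)).counit).app G).symm

instance additive_restr (U : C) : (ModSite.restr O U).Additive := DerCompLib.restr_additive U

/-- Extension by zero reflects exactness. -/
theorem exact_of_exact_map_extZero (S : ShortComplex (ModSite.Mod (O.over U)))
    (h : (S.map (ModSite.extZero O U)).Exact) : S.Exact := by
  haveI := DerCompLib.extZero_preservesFiniteLimits O U
  haveI : (ModSite.extZero O U).IsLeftAdjoint := (ModSite.extZeroAdj O U).isLeftAdjoint
  rw [ShortComplex.exact_iff_isZero_homology] at h ⊢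
  exact isZero_of_isZero_extZero (h.of_iso (S.mapHomologyIso (ModSite.extZero O U)).symm)

/-- Extension by zero reflects monomorphisms. -/
theorem mono_of_mono_extZero {X Y : ModSite.Mod (O.over U)} (f : X ⟶ Y)
    [Mono ((ModSite.extZero O U).map f)] : Mono f := by
  refine (ShortComplex.exact_iff_mono (ShortComplex.mk (0 : X ⟶ X) f (by simp)) rfl).1
    (exact_of_exact_map_extZero _ ?_)
  exact (ShortComplex.exact_iff_mono _ (by simp)).2
    (inferInstanceAs (Mono ((ModSite.extZero O U).map f)))

/-- Restrictions of flat modules are flat. -/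
theorem isFlat_restr {M : ModSite.Mod O} (hM : ModSite.IsFlat M) (U : C) :
    ModSite.IsFlat ((ModSite.restr O U).obj M) :=
  isFlat_of_preservesMono fun X Y f _ => by
    haveI := DerCompLib.extZero_preservesFiniteLimits O U
    haveI := mono_flip_map hM ((ModSite.extZero O U).map f)
    haveI : Mono ((ModSite.extZero O U).map
        (((ModSite.tensorBi (O.over U)).flip.obj ((ModSite.restr O U).obj M)).map f)) := by
      have e := NatIso.naturality_1 (projShIso M).symm f
      simp only [Functor.comp_map] at e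
      rw [← e]
      infer_instance
    exact mono_of_mono_extZero _

lemma sq3 {D : Type*} [Category D] {A₁ A₂ A₃ A₄ B₁ B₂ B₃ B₄ : D} {a₁ : A₁ ⟶ B₁} {a₂ : A₂ ⟶ B₂}
    {a₃ : A₃ ⟶ B₃} {a₄ : A₄ ⟶ B₄} {i₁ : A₁ ⟶ A₂} {i₂ : A₂ ⟶ A₃} {i₃ : A₃ ⟶ A₄} {j₁ : B₁ ⟶ B₂}
    {j₂ : B₂ ⟶ B₃} {j₃ : B₃ ⟶ B₄} (h₁ : a₁ ≫ j₁ = i₁ ≫ a₂) (h₂ : a₂ ≫ j₂ = i₂ ≫ a₃)
    (h₃ : a₃ ≫ j₃ = i₃ ≫ a₄) : a₁ ≫ j₁ ≫ j₂ ≫ j₃ = (i₁ ≫ i₂ ≫ i₃) ≫ a₄ := by
  simp [reassoc_of% h₁, reassoc_of% h₂, h₃]

/-- Associativity on components. -/
noncomputable def flipTenObj (A G F : ModSite.Mod O) :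
    ((ModSite.tensorBi O).flip.obj F).obj (((ModSite.tensorBi O).flip.obj G).obj A) ≅
      ((ModSite.tensorBi O).flip.obj (ten O G F)).obj A :=
  ((shTenRightIso F).app ((ModSite.toPre O).obj A ⊗ (ModSite.toPre O).obj G)).symm ≪≫
    (ModSite.shPre O).mapIso (α_ _ _ _) ≪≫
      @asIso _ _ _ _ ((ModSite.shPre O).map ((ModSite.toPre O).obj A ◁
          η O ((ModSite.toPre O).obj G ⊗ (ModSite.toPre O).obj F)))
        (isIso_shPre_whiskerLeft _ _ (isW_unit _))

lemma flipTenObj_natural (G F : ModSite.Mod O) {A B : ModSite.Mod O} (f : A ⟶ B) :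
    ((ModSite.tensorBi O).flip.obj F).map (((ModSite.tensorBi O).flip.obj G).map f) ≫
        (flipTenObj B G F).hom =
      (flipTenObj A G F).hom ≫ ((ModSite.tensorBi O).flip.obj (ten O G F)).map f :=
  sq3 ((shTenRightIso F).inv.naturality ((ModSite.toPre O).map f ▷ (ModSite.toPre O).obj G))
    (((ModSite.shPre O).map_comp _ _).symm.trans ((congrArg (ModSite.shPre O).map
      (associator_naturality_left ((ModSite.toPre O).map f) _ _)).trans
        ((ModSite.shPre O).map_comp _ _)))
    (((ModSite.shPre O).map_comp _ _).symm.trans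
      ((congrArg (ModSite.shPre O).map (whisker_exchange _ _).symm).trans
        ((ModSite.shPre O).map_comp _ _)))

/-- Tensor products of flat modules are flat. -/
theorem isFlat_tensor {G F : ModSite.Mod O} (hG : ModSite.IsFlat G) (hF : ModSite.IsFlat F) :
    ModSite.IsFlat (ten O G F) :=
  isFlat_of_preservesMono fun X Y f _ => by
    haveI := mono_flip_map hG f
    haveI := mono_flip_map hF (((ModSite.tensorBi O).flip.obj G).map f)
    rw [← Iso.inv_hom_id_assoc (flipTenObj X G F) (((ModSite.tensorBi O).flip.obj (ten O G F)).map f),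
      ← flipTenObj_natural]
    infer_instance

end Groth.Agent.SiteTen
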