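import Groth.Agent.SiteTen.Tensor
import Groth.Agent.DerCompLib.ExtZero
import Mathlib.LinearAlgebra.DirectSum.TensorProduct

/-!
# Tensor products, localisation and extension by zero

Restriction to a localised site commutes with sheafification and tensor products, and extension by
zero satisfies the projection formula.
-/

set_option autoImplicit false
set_option backward.isDefEq.respectTransparency false

universe u

open CategoryTheory CategoryTheory.Limits Opposite MonoidalCategory DirectSum

namespace Groth.Agent.SiteTen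

variable {C : Type u} [SmallCategory C] {J : GrothendieckTopology C}
  (O : Sheaf J CommRingCat.{u}) (U : C)

/-- Restriction of presheaves of modules to `C/U`. -/
noncomputable def preR : ModSite.preMod O ⥤ ModSite.preMod (O.over U) :=
  DerCompLib.preRestr (O.obj ⋙ forget₂ CommRingCat.{u} RingCat.{u}) U

/-- Extension by zero of presheaves of modules. -/
noncomputable def preExt : ModSite.preMod (O.over U) ⥤ ModSite.preMod O :=
  DerCompLib.sumFunctor (R := O.obj ⋙ forget₂ CommRingCat.{u} RingCat.{u}) (U := U)

/-- `preExt ⊣ preR`. -/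
noncomputable def preAdj : preExt O U ⊣ preR O U :=
  DerCompLib.sumAdj (O.obj ⋙ forget₂ CommRingCat.{u} RingCat.{u}) U

/-- Restriction commutes with forgetting to presheaves. -/
noncomputable def toPreRestrIso :
    ModSite.toPre O ⋙ preR O U ≅ ModSite.restr O U ⋙ ModSite.toPre (O.over U) :=
  Iso.refl _

/-- Extension by zero commutes with sheafification. -/
noncomputable def extShIso :
    preExt O U ⋙ ModSite.shPre O ≅ ModSite.shPre (O.over U) ⋙ ModSite.extZero O U :=
  ((preAdj O U).comp (shAdj O)).leftAdjointUniq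
    (((shAdj (O.over U)).comp (ModSite.extZeroAdj O U)).ofNatIsoRight (toPreRestrIso O U).symm)

/-- Extension by zero, computed on presheaves. -/
noncomputable def extZeroIso :
    ModSite.toPre (O.over U) ⋙ preExt O U ⋙ ModSite.shPre O ≅ ModSite.extZero O U :=
  Functor.isoWhiskerLeft _ (extShIso O U) ≪≫ (Functor.associator _ _ _).symm ≪≫
    Functor.isoWhiskerRight (asIso (shAdj (O.over U)).counit) _ ≪≫ Functor.leftUnitor _

variable {O U}

/-- Restriction preserves local bijectivity. -/
theorem isW_preR {N N' : ModSite.preMod O} (α : N ⟶ N') (hα : IsW α) : IsW ((preR O U).map α) := by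
  obtain ⟨hi, hs⟩ := (J.W_iff_isLocallyBijective (abMap α)).1 hα
  refine ((J.over U).W_iff_isLocallyBijective _).2
    ⟨⟨fun {X} x y h => ?_⟩, ⟨fun {X} s => ?_⟩⟩
  · rw [GrothendieckTopology.mem_over_iff]
    refine J.superset_covering ?_ (Presheaf.equalizerSieve_mem J (abMap α)
      (X := op X.unop.left) x y h)
    intro Z k hk
    exact (Sieve.overEquiv_iff _ k).2 hk
  · rw [GrothendieckTopology.mem_over_iff]
    refine J.superset_covering ?_ (Presheaf.imageSieve_mem J (abMap α) (U := op X.left) s)
    intro Z k hk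
    exact (Sieve.overEquiv_iff _ k).2 hk

/-- Sheafification inverts locally bijective maps. -/
theorem isIso_shPre_of_isW {O' : Sheaf J CommRingCat.{u}} {N N' : ModSite.preMod O'} (α : N ⟶ N')
    (hα : IsW α) : IsIso ((ModSite.shPre O').map α) := by
  haveI : IsIso ((presheafToSheaf J AddCommGrpCat.{u}).map (abMap α)) := (J.W_iff (abMap α)).1 hα
  have : IsIso ((SheafOfModules.toSheaf (ModSite.ringSh O')).map ((ModSite.shPre O').map α)) := this
  exact isIso_of_reflects_iso _ (SheafOfModules.toSheaf (ModSite.ringSh O'))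

variable (O U)

/-- Restriction commutes with sheafification. -/
noncomputable def restrShIso :
    preR O U ⋙ ModSite.shPre (O.over U) ≅ ModSite.shPre O ⋙ ModSite.restr O U :=
  NatIso.ofComponents
    (fun N => @asIso _ _ _ _ ((ModSite.shPre (O.over U)).map ((preR O U).map (η O N)))
      (isIso_shPre_of_isW _ (isW_preR _ (isW_unit N))) ≪≫
      (asIso (shAdj (O.over U)).counit).app ((ModSite.restr O U).obj ((ModSite.shPre O).obj N)))
    fun {N N'} f => by
      have e : (preR O U).map f ≫ (preR O U).map (η O N') =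
          (preR O U).map (η O N) ≫ (ModSite.toPre (O.over U)).map
            ((ModSite.restr O U).map ((ModSite.shPre O).map f)) := by
        rw [← Functor.map_comp]
        exact (congrArg (preR O U).map ((shAdj O).unit.naturality f)).trans ((preR O U).map_comp _ _)
      have e' := congrArg (ModSite.shPre (O.over U)).map e
      rw [Functor.map_comp, Functor.map_comp] at e'
      change (ModSite.shPre (O.over U)).map ((preR O U).map f) ≫ (ModSite.shPre (O.over U)).map _ ≫
          (shAdj (O.over U)).counit.app _ =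
        ((ModSite.shPre (O.over U)).map _ ≫ (shAdj (O.over U)).counit.app _) ≫
          (ModSite.restr O U).map ((ModSite.shPre O).map f)
      rw [reassoc_of% e', Category.assoc]
      exact congrArg _ ((shAdj (O.over U)).counit.naturality _)

/-- Restriction commutes with the tensor product of presheaves. -/
noncomputable def preRTenIso (M N : ModSite.preMod O) :
    (preR O U).obj (M ⊗ N) ≅ (preR O U).obj M ⊗ (preR O U).obj N :=
  PresheafOfModules.isoMk (fun X => Iso.refl _)
    fun X Y g => ModuleCat.MonoidalCategory.tensor_ext (R := ((O.over U).obj.obj X : Type u)) fun m n => rfl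

/-- Restriction commutes with the tensor product. -/
noncomputable def restrTenIso (M : ModSite.Mod O) :
    (ModSite.tensorBi O).obj M ⋙ ModSite.restr O U ≅
      ModSite.restr O U ⋙ (ModSite.tensorBi (O.over U)).obj ((ModSite.restr O U).obj M) :=
  NatIso.ofComponents
    (fun N => ((restrShIso O U).app _).symm ≪≫
      (ModSite.shPre (O.over U)).mapIso (preRTenIso O U _ _))
    fun {N N'} f => by
      have h₁ := (restrShIso O U).inv.naturality ((ModSite.toPre O).obj M ◁ (ModSite.toPre O).map f)
      have h₂ : (preR O U).map ((ModSite.toPre O).obj M ◁ (ModSite.toPre O).map f) ≫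
          (preRTenIso O U _ _).hom = (preRTenIso O U _ _).hom ≫ (_ ◁ (ModSite.toPre (O.over U)).map
            ((ModSite.restr O U).map f)) :=
        PresheafOfModules.hom_ext fun X =>
          ModuleCat.MonoidalCategory.tensor_ext (R := ((O.over U).obj.obj X : Type u)) fun m n => rfl
      simp only [Functor.comp_map] at h₁ ⊢
      simp only [Iso.trans_hom, Iso.symm_hom, Iso.app_inv, Functor.mapIso_hom, Category.assoc]
      refine ((Category.assoc _ _ _).symm.trans (congrArg (· ≫ _) h₁)).trans ((Category.assoc _ _ _).trans ?_)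
      refine congrArg _ ?_
      refine ((ModSite.shPre (O.over U)).map_comp _ _).symm.trans ?_
      exact (congrArg _ h₂).trans ((ModSite.shPre (O.over U)).map_comp _ _)

/-- The inclusion of a summand of an extension by zero. -/
noncomputable def inclExt (G : ModSite.preMod (O.over U)) (V : Cᵒᵖ) (φ : V.unop ⟶ U) :
    G.obj (op (Over.mk φ)) →+ ((preExt O U).obj G).obj V :=
  (DerCompLib.sumIncl (R := O.obj ⋙ forget₂ CommRingCat.{u} RingCat.{u}) G V φ).hom.toAddMonoidHom

lemma preExt_hom_ext {G : ModSite.preMod (O.over U)} {N : ModSite.preMod O}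
    {f g : (preExt O U).obj G ⟶ N}
    (h : ∀ V φ x, f.app V (inclExt O U G V φ x) = g.app V (inclExt O U G V φ x)) : f = g :=
  PresheafOfModules.hom_ext fun V => DerCompLib.sumObj_ext fun φ x => h V φ x

section Projection

variable {O U}

lemma map_inclExt {G G' : ModSite.preMod (O.over U)} (g : G ⟶ G') (V : Cᵒᵖ) (φ : V.unop ⟶ U)
    (x : G.obj (op (Over.mk φ))) :
    ((preExt O U).map g).app V (inclExt O U G V φ x) = inclExt O U G' V φ (g.app (op (Over.mk φ)) x) :=
  DerCompLib.sumPresheafMapApp_incl (R := O.obj ⋙ forget₂ CommRingCat.{u} RingCat.{u}) (U := U)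
    (G := G) (H := G') g V φ x

lemma homEquiv_symm_inclExt {G : ModSite.preMod (O.over U)} {N : ModSite.preMod O}
    (γ : G ⟶ (preR O U).obj N) (V : Cᵒᵖ) (φ : V.unop ⟶ U) (x : G.obj (op (Over.mk φ))) :
    (((preAdj O U).homEquiv G N).symm γ).app V (inclExt O U G V φ x) = γ.app (op (Over.mk φ)) x :=
  DerCompLib.sumHomInv_incl (R := O.obj ⋙ forget₂ CommRingCat.{u} RingCat.{u}) (U := U) G N γ V φ x

/-- A pure tensor of presheaves of modules. -/
noncomputable def tmO {O' : Sheaf J CommRingCat.{u}} (A B : ModSite.preMod O') (V : Cᵒᵖ)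
    (a : A.obj V) (b : B.obj V) : (A ⊗ B).obj V :=
  TensorProduct.tmul (O'.obj.obj V) a b

/-- A pure tensor over the localised site. -/
noncomputable def tmE (G : ModSite.preMod (O.over U)) (N : ModSite.preMod O) (V : Cᵒᵖ)
    (φ : V.unop ⟶ U) (x : G.obj (op (Over.mk φ))) (n : N.obj V) :
    (G ⊗ (preR O U).obj N).obj (op (Over.mk φ)) :=
  TensorProduct.tmul ((O.over U).obj.obj (op (Over.mk φ))) x (n : ((preR O U).obj N).obj (op (Over.mk φ)))

lemma whiskerRight_tmE {G G' : ModSite.preMod (O.over U)} (g : G ⟶ G') (N : ModSite.preMod O)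
    (V : Cᵒᵖ) (φ : V.unop ⟶ U) (x : G.obj (op (Over.mk φ))) (n : N.obj V) :
    (g ▷ (preR O U).obj N).app (op (Over.mk φ)) (tmE G N V φ x n) =
      tmE G' N V φ (g.app (op (Over.mk φ)) x) n := rfl

lemma whiskerLeft_tmE (G : ModSite.preMod (O.over U)) {N N' : ModSite.preMod O} (f : N ⟶ N')
    (V : Cᵒᵖ) (φ : V.unop ⟶ U) (x : G.obj (op (Over.mk φ))) (n : N.obj V) :
    (G ◁ (preR O U).map f).app (op (Over.mk φ)) (tmE G N V φ x n) =
      tmE G N' V φ x (f.app V n) := rfl

lemma whiskerRight_tmO {A A' : ModSite.preMod O} (g : A ⟶ A') (B : ModSite.preMod O) (V : Cᵒᵖ)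
    (a : A.obj V) (b : B.obj V) : (g ▷ B).app V (tmO A B V a b) = tmO A' B V (g.app V a) b := rfl

lemma whiskerLeft_tmO (A : ModSite.preMod O) {B B' : ModSite.preMod O} (f : B ⟶ B') (V : Cᵒᵖ)
    (a : A.obj V) (b : B.obj V) : (A ◁ f).app V (tmO A B V a b) = tmO A B' V a (f.app V b) := rfl

variable (G : ModSite.preMod (O.over U)) (N : ModSite.preMod O)

lemma hom_ext_tmE {P : ModSite.preMod O} {f g : (preExt O U).obj (G ⊗ (preR O U).obj N) ⟶ P}
    (h : ∀ V φ x n, f.app V (inclExt O U _ V φ (tmE G N V φ x n)) =
      g.app V (inclExt O U _ V φ (tmE G N V φ x n))) : f = g :=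
  preExt_hom_ext O U fun V φ y => by
    induction y using TensorProduct.induction_on with
    | zero => simp only [map_zero]
    | tmul x n => exact h V φ x n
    | add y y' hy hy' => simp only [map_add, hy, hy']

/-- The projection map `j_!(G ⊗ N|U) ⟶ j_!G ⊗ N`. -/
noncomputable def projHom : (preExt O U).obj (G ⊗ (preR O U).obj N) ⟶ (preExt O U).obj G ⊗ N :=
  ((preAdj O U).homEquiv _ _).symm
    (((preAdj O U).unit.app G ▷ _) ≫ (preRTenIso O U _ _).inv)

lemma unit_app_apply (V : Cᵒᵖ) (φ : V.unop ⟶ U) (x : G.obj (op (Over.mk φ))) :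
    ((preAdj O U).unit.app G).app (op (Over.mk φ)) x = inclExt O U G V φ x := rfl

lemma projHom_incl (V : Cᵒᵖ) (φ : V.unop ⟶ U) (x : G.obj (op (Over.mk φ))) (n : N.obj V) :
    (projHom G N).app V (inclExt O U _ V φ (tmE G N V φ x n)) =
      tmO ((preExt O U).obj G) N V (inclExt O U G V φ x) n :=
  (homEquiv_symm_inclExt _ V φ _).trans rfl

instance isIso_projHom : IsIso (projHom G N) := by
  classical
  refine (NatTrans.isIso_iff_isIso_app _).2 (fun V => ?_) |> fun h =>
    @isIso_of_reflects_iso _ _ _ _ _ _ (projHom G N) (PresheafOfModules.toPresheaf _) h _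
  rw [ConcreteCategory.isIso_iff_bijective]
  let e := TensorProduct.directSumLeft (O.obj.obj V) (O.obj.obj V)
    (fun φ : V.unop ⟶ U => (G.obj (op (Over.mk φ)) : Type u)) (N.obj V : Type u)
  have he : ∀ y, e (((projHom G N).app V).hom y) = y := by
    intro y
    induction y using DirectSum.induction_on with
    | zero => simp
    | of φ z =>
      induction z using TensorProduct.induction_on with
      | zero => simp
      | tmul x n =>
        exact (congrArg e (projHom_incl G N V φ x n)).trans
          (TensorProduct.directSumLeft_tmul_lof _ _ _ _ _)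
      | add z z' hz hz' => simp only [map_add, hz, hz']
    | add y y' hy hy' => simp only [map_add, hy, hy']
  refine ⟨Function.LeftInverse.injective he, fun z => ?_⟩
  exact ⟨e z, e.injective (he _)⟩

/-- The projection formula for presheaves. -/
noncomputable abbrev projIso :
    (preExt O U).obj (G ⊗ (preR O U).obj N) ≅ (preExt O U).obj G ⊗ N :=
  asIso (projHom G N)

lemma projHom_natural_left {G G' : ModSite.preMod (O.over U)} (g : G ⟶ G') :
    (preExt O U).map (g ▷ (preR O U).obj N) ≫ projHom G' N =
      projHom G N ≫ ((preExt O U).map g ▷ N) := by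
  refine hom_ext_tmE G N fun V φ x n => ?_
  refine ((congrArg ((projHom G' N).app V) ((map_inclExt _ V φ _).trans
      (congrArg _ (whiskerRight_tmE g N V φ x n)))).trans (projHom_incl G' N V φ _ n)).trans ?_
  refine Eq.trans ?_ (congrArg (((preExt O U).map g ▷ N).app V) (projHom_incl G N V φ x n)).symm
  rw [whiskerRight_tmO, map_inclExt]

lemma projHom_natural_right {N N' : ModSite.preMod O} (f : N ⟶ N') :
    (preExt O U).map (G ◁ (preR O U).map f) ≫ projHom G N' =
      projHom G N ≫ ((preExt O U).obj G ◁ f) := by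
  refine hom_ext_tmE G N fun V φ x n => ?_
  refine ((congrArg ((projHom G N').app V) ((map_inclExt _ V φ _).trans
      (congrArg _ (whiskerLeft_tmE G f V φ x n)))).trans (projHom_incl G N' V φ x _)).trans ?_
  refine Eq.trans ?_ (congrArg (((preExt O U).obj G ◁ f).app V) (projHom_incl G N V φ x n)).symm
  rw [whiskerLeft_tmO]

end Projection

end Groth.Agent.SiteTen
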