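import Groth.Agent.SiteTen.Linear
import Groth.Agent.DCat.Derived
import Groth.Agent.DCat.DerivedPrecomp
import Mathlib.Algebra.Homology.DerivedCategory.Fractions
import Mathlib.Algebra.Homology.DerivedCategory.Linear

/-!
# The derived tensor product on a ringed site

It exists, and is computed by K-flat complexes in the variable.
-/

set_option autoImplicit false
set_option backward.isDefEq.respectTransparency false

universe u

open CategoryTheory CategoryTheory.Limits Opposite HomologicalComplex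
open Groth.Agent.DCat

attribute [local instance] HasDerivedCategory.standard

namespace Groth.Agent.SiteTen

lemma map_smul_of_iso {A B : Type*} [Category A] [Category B] [Preadditive A] [Preadditive B]
    {R : Type*} [Semiring R] [Linear R A] [Linear R B] (F : A ⥤ B) (r : R) {X Y : A} (e : X ≅ Y)
    (h : F.map (r • 𝟙 X) = r • 𝟙 (F.obj X)) : F.map (r • 𝟙 Y) = r • 𝟙 (F.obj Y) := by
  have hY : r • 𝟙 Y = e.inv ≫ (r • 𝟙 X) ≫ e.hom := by simp
  rw [hY, F.map_comp, F.map_comp, h]
  simp [← F.map_comp]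

variable {C : Type u} [SmallCategory C] {J : GrothendieckTopology C} {O : Sheaf J CommRingCat.{u}}

/-- Tensoring a quasi-isomorphism of K-flat complexes on the left. -/
theorem quasiIso_tot₁ {P Q : CochainComplex (ModSite.Mod O) ℤ} (hP : IsKFlatFor (tT O) P)
    (hQ : IsKFlatFor (tT O) Q) (α : P ⟶ Q) [QuasiIso α] (F : CochainComplex (ModSite.Mod O) ℤ) :
    QuasiIso (totMap₁ (tT O) α F) := by
  haveI := quasiIso_tot₂ hP hQ α F
  refine (quasiIso_iff_comp_right _ (totSymm Q F).hom).1 ?_
  rw [show totMap₁ (tT O) α F ≫ (totSymm Q F).hom = (totSymm P F).hom ≫ totMap₂ (tT O) F α from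
    totSymm_natural α (𝟙 F)]
  infer_instance

variable (E : CochainComplex (ModSite.Mod O) ℤ)

/-- `- ⊗ E` on the homotopy category. -/
noncomputable def tensorKh :
    HomotopyCategory (ModSite.Mod O) (ComplexShape.up ℤ) ⥤ DerivedCategory (ModSite.Mod O) :=
  CategoryTheory.Quotient.lift _ (ModSite.tensorCxQ E) fun K L f g h => by
    obtain ⟨h⟩ := h
    have hQ := HomotopyCategory.eq_of_homotopy _ _
      (mapBifunctorMapHomotopy₁ h (𝟙 E) (tT O) (ComplexShape.up ℤ))
    have e := congrArg DerivedCategory.Qh.map hQ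
    have nf := (DerivedCategory.quotientCompQhIso (ModSite.Mod O)).hom.naturality (totMap₁ (tT O) f E)
    have ng := (DerivedCategory.quotientCompQhIso (ModSite.Mod O)).hom.naturality (totMap₁ (tT O) g E)
    refine (cancel_epi ((DerivedCategory.quotientCompQhIso (ModSite.Mod O)).hom.app (tot (tT O) K E))).1 ?_
    exact (nf.symm.trans (congrArg (· ≫ _) e)).trans ng

/-- The defining isomorphism of `tensorKh`. -/
noncomputable def tensorKhIso :
    HomotopyCategory.quotient (ModSite.Mod O) (ComplexShape.up ℤ) ⋙ tensorKh E ≅ ModSite.tensorCxQ E :=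
  CategoryTheory.Quotient.lift.isLift _ _ _

variable (O) in
/-- K-flat objects of the homotopy category. -/
def kflatK : ObjectProperty (HomotopyCategory (ModSite.Mod O) (ComplexShape.up ℤ)) :=
  fun K => IsKFlatFor (tT O) K.as

lemma exists_kflatK (K : HomotopyCategory (ModSite.Mod O) (ComplexShape.up ℤ)) :
    ∃ (K' : HomotopyCategory (ModSite.Mod O) (ComplexShape.up ℤ)) (s : K' ⟶ K), kflatK O K' ∧
      HomotopyCategory.quasiIso (ModSite.Mod O) (ComplexShape.up ℤ) s := by
  obtain ⟨N, c, hN, -, hc, -⟩ := exists_kflat K.as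
  exact ⟨(HomotopyCategory.quotient _ _).obj N, (HomotopyCategory.quotient _ _).map c, hN,
    (HomotopyCategory.quotient_map_mem_quasiIso_iff c).2 hc⟩

lemma isIso_tensorKh_of_kflat ⦃K L : HomotopyCategory (ModSite.Mod O) (ComplexShape.up ℤ)⦄
    (s : K ⟶ L) (hK : kflatK O K) (hL : kflatK O L)
    (hs : HomotopyCategory.quasiIso (ModSite.Mod O) (ComplexShape.up ℤ) s) :
    IsIso ((tensorKh E).map s) := by
  obtain ⟨K⟩ := K
  obtain ⟨L⟩ := L
  obtain ⟨s, rfl⟩ := (HomotopyCategory.quotient _ (ComplexShape.up ℤ)).map_surjective s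
  haveI : QuasiIso s := (HomotopyCategory.quotient_map_mem_quasiIso_iff s).1 hs
  haveI := quasiIso_tot₁ hK hL s E
  exact Localization.inverts DerivedCategory.Q
    (HomologicalComplex.quasiIso (ModSite.Mod O) (ComplexShape.up ℤ))
    (totMap₁ (tT O) s E) ((HomologicalComplex.mem_quasiIso_iff _).2 ‹_›)

/-- The derived tensor product exists. -/
theorem hasLTensorCx : ModSite.HasLTensorCx E :=
  haveI : (tensorKh E).HasLeftDerivedFunctor (HomotopyCategory.quasiIso (ModSite.Mod O) (ComplexShape.up ℤ)) :=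
    hasLeftDerived (P := kflatK O) exists_kflatK (isIso_tensorKh_of_kflat E)
  hasLeftDerived_precomp (HomotopyCategory.quotient _ (ComplexShape.up ℤ))
    (DerivedCategory.quotientCompQhIso (ModSite.Mod O)) (F := tensorKh E) (tensorKhIso E) _
    (W := HomotopyCategory.quasiIso (ModSite.Mod O) (ComplexShape.up ℤ))

variable [ModSite.HasLTensorCx E]

/-- The counit of `- ⊗^L E`. -/
noncomputable abbrev ltCounit : DerivedCategory.Q ⋙ ModSite.LTensorCx E ⟶ ModSite.tensorCxQ E :=
  (ModSite.tensorCxQ E).totalLeftDerivedCounit DerivedCategory.Q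
    (HomologicalComplex.quasiIso (ModSite.Mod O) (ComplexShape.up ℤ))

/-- The counit is invertible on K-flat complexes. -/
theorem isIso_ltCounit {P : CochainComplex (ModSite.Mod O) ℤ} (hP : IsKFlatFor (tT O) P) :
    IsIso ((ltCounit E).app P) := by
  haveI : (tensorKh E).HasLeftDerivedFunctor (HomotopyCategory.quasiIso (ModSite.Mod O) (ComplexShape.up ℤ)) :=
    hasLeftDerived (P := kflatK O) exists_kflatK (isIso_tensorKh_of_kflat E)
  let α := (tensorKh E).totalLeftDerivedCounit DerivedCategory.Qh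
    (HomotopyCategory.quasiIso (ModSite.Mod O) (ComplexShape.up ℤ))
  let LF := (tensorKh E).totalLeftDerived DerivedCategory.Qh
    (HomotopyCategory.quasiIso (ModSite.Mod O) (ComplexShape.up ℤ))
  haveI := isIso_counit_of_mem exists_kflatK (isIso_tensorKh_of_kflat E) α
    (X := (HomotopyCategory.quotient _ _).obj P) hP
  haveI hLF := isLeftDerived_precomp (HomotopyCategory.quotient _ (ComplexShape.up ℤ))
    (DerivedCategory.quotientCompQhIso (ModSite.Mod O)) (F := tensorKh E) (tensorKhIso E)
    (HomologicalComplex.quasiIso (ModSite.Mod O) (ComplexShape.up ℤ)) (F₀ := ModSite.tensorCxQ E)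
    (W := HomotopyCategory.quasiIso (ModSite.Mod O) (ComplexShape.up ℤ)) α
  let β := Functor.whiskerRight (DerivedCategory.quotientCompQhIso (ModSite.Mod O)).inv LF ≫
    (Functor.associator _ _ _).hom ≫ Functor.whiskerLeft (HomotopyCategory.quotient _ (ComplexShape.up ℤ)) α ≫
      (tensorKhIso E).hom
  haveI hβ : IsIso (β.app P) :=
    @IsIso.comp_isIso _ _ _ _ _ _ _ inferInstance (@IsIso.comp_isIso _ _ _ _ _ _ _ inferInstance
      (@IsIso.comp_isIso _ _ _ _ _ _ _ ‹IsIso (α.app _)› inferInstance))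
  haveI : LF.IsLeftDerivedFunctor β (HomologicalComplex.quasiIso (ModSite.Mod O) (ComplexShape.up ℤ)) := hLF
  haveI : IsIso ((ModSite.LTensorCx E).leftDerivedLift (ltCounit E)
      (HomologicalComplex.quasiIso (ModSite.Mod O) (ComplexShape.up ℤ)) LF β) :=
    ((ModSite.LTensorCx E).isLeftDerivedFunctor_iff_isIso_leftDerivedLift (ltCounit E) _ LF β).1 ‹_›
  exact IsIso.of_isIso_fac_left ((ModSite.LTensorCx E).leftDerived_fac_app (ltCounit E)
    (HomologicalComplex.quasiIso (ModSite.Mod O) (ComplexShape.up ℤ)) LF β P)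

/-- `- ⊗^L E` of a K-flat complex. -/
noncomputable def ltensorIso {P : CochainComplex (ModSite.Mod O) ℤ} (hP : IsKFlatFor (tT O) P) :
    (ModSite.LTensorCx E).obj (DerivedCategory.Q.obj P) ≅ DerivedCategory.Q.obj (tot (tT O) P E) :=
  @asIso _ _ _ _ ((ltCounit E).app P) (isIso_ltCounit E hP)

omit [ModSite.HasLTensorCx E] in
/-- Every object of the derived category has a K-flat model. -/
theorem exists_kflat_rep (X : DerivedCategory (ModSite.Mod O)) :
    ∃ P, IsKFlatFor (tT O) P ∧ (∀ n, ModSite.IsFlat (P.X n)) ∧ Nonempty (DerivedCategory.Q.obj P ≅ X) := by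
  obtain ⟨N, c, hN, hf, hc, -⟩ := exists_kflat (DerivedCategory.Q.objPreimage X)
  haveI := hc
  exact ⟨N, hN, hf, ⟨asIso (DerivedCategory.Q.map c) ≪≫ DerivedCategory.Q.objObjPreimageIso X⟩⟩

/-- `- ⊗^L E` is linear over global sections. -/
theorem ltensor_map_smul (s : DerComp.GSec O) (X : DerivedCategory (ModSite.Mod O)) :
    (ModSite.LTensorCx E).map (s • 𝟙 X) = s • 𝟙 ((ModSite.LTensorCx E).obj X) := by
  obtain ⟨P, hP, -, ⟨e⟩⟩ := exists_kflat_rep X
  haveI := isIso_ltCounit E hP
  refine map_smul_of_iso (ModSite.LTensorCx E) s e ?_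
  rw [← cancel_mono ((ltCounit E).app P), Linear.smul_comp, Category.id_comp]
  have h₁ := (ltCounit E).naturality (s • 𝟙 P)
  have h₂ : (ModSite.tensorCxQ E).map (s • 𝟙 P) = s • 𝟙 (DerivedCategory.Q.obj (tot (tT O) P E)) :=
    (congrArg DerivedCategory.Q.map (totMap₁_smul s P E)).trans (by
      rw [Functor.map_smul, CategoryTheory.Functor.map_id])
  rw [h₂, Functor.comp_map, Functor.map_smul, CategoryTheory.Functor.map_id] at h₁
  exact h₁.trans ((Linear.comp_smul _ _ _ _ _ _).trans (congrArg (s • ·) (Category.comp_id _)))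

end Groth.Agent.SiteTen
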