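import Groth.Agent.SiteTen.KFlat
import Groth.Prelude.Def_DerComp

/-!
# The tensor product is linear over global sections
-/

set_option autoImplicit false
set_option backward.isDefEq.respectTransparency false

universe u

open CategoryTheory CategoryTheory.Limits Opposite MonoidalCategory HomologicalComplex
open Groth.Agent.DCat

namespace Groth.Agent.SiteTen

variable {C : Type u} [SmallCategory C] {J : GrothendieckTopology C} {O : Sheaf J CommRingCat.{u}}

lemma smulEnd_eq (s : DerComp.GSec O) (F : ModSite.Mod O) : s • 𝟙 F = DerComp.smulEnd s F :=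
  Category.comp_id _

lemma toPre_smul_apply (s : DerComp.GSec O) (F : ModSite.Mod O) (X : Cᵒᵖ)
    (x : ((ModSite.toPre O).obj F).obj X) :
    ((ModSite.toPre O).map (DerComp.smulEnd s F)).app X x = (s.1 X.unop : O.obj.obj X) • x := rfl

/-- Multiplication by a global section on the right factor. -/
theorem tT_obj_map_smul (s : DerComp.GSec O) (A B : ModSite.Mod O) :
    ((tT O).obj A).map (s • 𝟙 B) = s • 𝟙 (((tT O).obj A).obj B) := by
  rw [smulEnd_eq, smulEnd_eq]
  refine ((shAdj O).homEquiv _ _).injective ?_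
  rw [Adjunction.homEquiv_unit, Adjunction.homEquiv_unit]
  refine ((shAdj O).unit.naturality ((ModSite.toPre O).obj A ◁ (ModSite.toPre O).map
    (DerComp.smulEnd s B))).symm.trans ?_
  refine PresheafOfModules.hom_ext fun X => ModuleCat.MonoidalCategory.tensor_ext fun a b => ?_
  change (η O ((ModSite.toPre O).obj A ⊗ (ModSite.toPre O).obj B)).app X (TensorProduct.tmul (O.obj.obj X) a ((s.1 X.unop : O.obj.obj X) • b)) =
    (s.1 X.unop : O.obj.obj X) • (η O ((ModSite.toPre O).obj A ⊗ (ModSite.toPre O).obj B)).app X (TensorProduct.tmul (O.obj.obj X) a b)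
  rw [TensorProduct.tmul_smul]
  exact ((η O ((ModSite.toPre O).obj A ⊗ (ModSite.toPre O).obj B)).app X).hom.map_smul _ _

/-- Multiplication by a global section on the left factor. -/
theorem tT_map_app_smul (s : DerComp.GSec O) (A B : ModSite.Mod O) :
    ((tT O).map (s • 𝟙 A)).app B = s • 𝟙 (((tT O).obj A).obj B) := by
  rw [smulEnd_eq, smulEnd_eq]
  refine ((shAdj O).homEquiv _ _).injective ?_
  rw [Adjunction.homEquiv_unit, Adjunction.homEquiv_unit]
  refine ((shAdj O).unit.naturality ((ModSite.toPre O).map (DerComp.smulEnd s A) ▷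
    (ModSite.toPre O).obj B)).symm.trans ?_
  refine PresheafOfModules.hom_ext fun X => ModuleCat.MonoidalCategory.tensor_ext fun a b => ?_
  change (η O ((ModSite.toPre O).obj A ⊗ (ModSite.toPre O).obj B)).app X (TensorProduct.tmul (O.obj.obj X) ((s.1 X.unop : O.obj.obj X) • a) b) =
    (s.1 X.unop : O.obj.obj X) • (η O ((ModSite.toPre O).obj A ⊗ (ModSite.toPre O).obj B)).app X (TensorProduct.tmul (O.obj.obj X) a b)
  rw [← TensorProduct.smul_tmul']
  exact ((η O ((ModSite.toPre O).obj A ⊗ (ModSite.toPre O).obj B)).app X).hom.map_smul _ _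

lemma totMap₂_smul (s : DerComp.GSec O) (F K : CochainComplex (ModSite.Mod O) ℤ) :
    totMap₂ (tT O) F (s • 𝟙 K) = s • 𝟙 (tot (tT O) F K) := by
  ext n : 1
  refine mapBifunctor.hom_ext fun p q h => ?_
  simp [ι_mapBifunctorMap, tT_obj_map_smul, Linear.smul_comp, Linear.comp_smul]

lemma totMap₁_smul (s : DerComp.GSec O) (F K : CochainComplex (ModSite.Mod O) ℤ) :
    totMap₁ (tT O) (s • 𝟙 F) K = s • 𝟙 (tot (tT O) F K) := by
  ext n : 1
  refine mapBifunctor.hom_ext fun p q h => ?_
  simp [ι_mapBifunctorMap, tT_map_app_smul, Linear.smul_comp, Linear.comp_smul]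

/-- Symmetry is natural. -/
lemma totSymm_natural {M M' K K' : CochainComplex (ModSite.Mod O) ℤ} (f : M ⟶ M') (g : K ⟶ K') :
    mapBifunctorMap f g (tT O) (ComplexShape.up ℤ) ≫ (totSymm M' K').hom =
      (totSymm M K).hom ≫ mapBifunctorMap g f (tT O) (ComplexShape.up ℤ) := by
  have h₁ := mapTotHom_natural (T := tT O) (T' := (tT O).flip) (F := 𝟭 _) (H := 𝟭 _) (G := 𝟭 _)
    (α := fun a b => braidObj a b) (fun f b => braidObj_left f b)
    (fun a _ _ g => braidObj_right a g) f g
  dsimp only [totSymm, Iso.trans_hom]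
  rw [Category.assoc, ← mapBifunctorFlipIso_hom_naturality]
  exact (Category.assoc _ _ _).symm.trans ((congrArg (· ≫ _) h₁).trans (Category.assoc _ _ _))

end Groth.Agent.SiteTen
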