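import Groth.Agent.SiteTen.ExtZeroTot
import Groth.Agent.DCat.RHomExist
import Groth.Agent.DCat.TotProj
import Groth.Agent.DCat.RHomLeft
import Groth.Agent.DCat.RHomSeq
import Groth.Agent.DCat.OpenDerived
import Groth.Agent.DerCompLib.Locality
import Mathlib.CategoryTheory.Triangulated.TStructure.TruncLTGE

/-!
# Internal derived hom on a ringed site

Dependence on the first variable up to isomorphism, existence, degrees, triangles and localisation.
-/

set_option autoImplicit false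
set_option backward.isDefEq.respectTransparency false
set_option backward.defeqAttrib.useBackward true
set_option linter.style.haveILetI false
set_option linter.unusedVariables false
set_option synthInstance.maxHeartbeats 100000

universe u

open CategoryTheory CategoryTheory.Limits CategoryTheory.Pretriangulated Opposite HomologicalComplex
open Groth.Agent.DCat

attribute [local instance] HasDerivedCategory.standard

namespace Groth.Agent.SiteTen

variable {C : Type u} [SmallCategory C] {J : GrothendieckTopology C} {O : Sheaf J CommRingCat.{u}}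

local notation "D" => DerivedCategory (ModSite.Mod O)
local notation "t₀" => (DerivedCategory.TStructure.t : CategoryTheory.Triangulated.TStructure (DerivedCategory (ModSite.Mod O)))

/-- Tensoring a quasi-isomorphism with a K-flat complex. -/
theorem quasiIso_tot_kflat {A : CochainComplex (ModSite.Mod O) ℤ} (hA : IsKFlatFor (tT O) A)
    {N E : CochainComplex (ModSite.Mod O) ℤ} (q : N ⟶ E) [QuasiIso q] :
    QuasiIso (totMap₂ (tT O) A q) := by
  refine (quasiIso_iff_comp_right _ (totSymm A E).hom).1 ?_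
  rw [show totMap₂ (tT O) A q ≫ (totSymm A E).hom = (totSymm A N).hom ≫ totMap₁ (tT O) q A from
    totSymm_natural (𝟙 A) q]
  haveI := hA.quasiIso_map q
  infer_instance

/-- The counit is invertible everywhere for a K-flat second variable. -/
theorem isIso_ltCounit_of_right {E : CochainComplex (ModSite.Mod O) ℤ} [ModSite.HasLTensorCx E]
    (hE : IsKFlatFor (tT O) E) (A : CochainComplex (ModSite.Mod O) ℤ) : IsIso ((ltCounit E).app A) := by
  obtain ⟨N, c, hN, -, hc, -⟩ := exists_kflat A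
  haveI := hc
  haveI := isIso_ltCounit E hN
  haveI := hE.quasiIso_map c
  haveI : IsIso ((ModSite.tensorCxQ E).map c) := Localization.inverts DerivedCategory.Q
    (HomologicalComplex.quasiIso (ModSite.Mod O) (ComplexShape.up ℤ)) (totMap₁ (tT O) c E)
    ((HomologicalComplex.mem_quasiIso_iff _).2 ‹QuasiIso (totMap₁ (tT O) c E)›)
  have h := (ltCounit E).naturality c
  haveI : IsIso ((DerivedCategory.Q ⋙ ModSite.LTensorCx E).map c ≫ (ltCounit E).app A) := by
    rw [h]; infer_instance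
  haveI : IsIso ((DerivedCategory.Q ⋙ ModSite.LTensorCx E).map c) :=
    inferInstanceAs (IsIso ((ModSite.LTensorCx E).map (DerivedCategory.Q.map c)))
  exact IsIso.of_isIso_comp_left ((DerivedCategory.Q ⋙ ModSite.LTensorCx E).map c) _

/-- `- ⊗^L E` descends `- ⊗ E` for K-flat `E`. -/
noncomputable def ltFac {E : CochainComplex (ModSite.Mod O) ℤ} [ModSite.HasLTensorCx E]
    (hE : IsKFlatFor (tT O) E) : DerivedCategory.Q ⋙ ModSite.LTensorCx E ≅ ModSite.tensorCxQ E :=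
  haveI : ∀ A, IsIso ((ltCounit E).app A) := isIso_ltCounit_of_right hE
  haveI := NatIso.isIso_of_isIso_app (ltCounit E)
  asIso (ltCounit E)

theorem nonempty_ltensor_of_quasiIso {N E : CochainComplex (ModSite.Mod O) ℤ} (q : N ⟶ E) [QuasiIso q]
    [ModSite.HasLTensorCx N] [ModSite.HasLTensorCx E] :
    Nonempty (ModSite.LTensorCx N ≅ ModSite.LTensorCx E) := by
  refine TensorCongr.nonempty_derived_iso DerivedCategory.Q
    (HomologicalComplex.quasiIso (ModSite.Mod O) (ComplexShape.up ℤ))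
    (Functor.whiskerRight ((ModSite.tensorCx O).flip.map q) DerivedCategory.Q) _ _
    (ltCounit N) (ltCounit E) fun Y => ?_
  obtain ⟨A, hA, -, ⟨e⟩⟩ := exists_kflat_rep Y
  exact ⟨A, ⟨e⟩, isIso_ltCounit N hA, isIso_ltCounit E hA,
    TensorCongr.isIso_whisker_of_eq (tT O) (ModSite.tensorCx O) rfl q A (quasiIso_tot_kflat hA q)⟩

/-- Complexes isomorphic in the derived category have isomorphic derived tensor functors. -/
theorem nonempty_ltensor_congr {E E' : CochainComplex (ModSite.Mod O) ℤ} [ModSite.HasLTensorCx E]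
    [ModSite.HasLTensorCx E'] (e : DerivedCategory.Q.obj E ≅ DerivedCategory.Q.obj E') :
    Nonempty (ModSite.LTensorCx E ≅ ModSite.LTensorCx E') := by
  obtain ⟨Z, s, hs, g, hg⟩ := DerivedCategory.right_fac e.hom
  haveI : IsIso (DerivedCategory.Q.map g) := by
    haveI : IsIso (inv (DerivedCategory.Q.map s) ≫ DerivedCategory.Q.map g) := hg ▸ e.isIso_hom
    exact IsIso.of_isIso_comp_left (inv (DerivedCategory.Q.map s)) _
  haveI := (DerivedCategory.isIso_Q_map_iff_quasiIso _ s).1 hs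
  haveI := (DerivedCategory.isIso_Q_map_iff_quasiIso _ g).1 ‹_›
  haveI := hasLTensorCx Z
  obtain ⟨a⟩ := nonempty_ltensor_of_quasiIso s
  obtain ⟨b⟩ := nonempty_ltensor_of_quasiIso g
  exact ⟨a.symm ≪≫ b⟩

/-- Isomorphic complexes in the derived category have isomorphic internal homs. -/
theorem nonempty_rhom_congr {E E' : CochainComplex (ModSite.Mod O) ℤ} [ModSite.HasLTensorCx E]
    [DerComp.HasRHom E] [ModSite.HasLTensorCx E'] [DerComp.HasRHom E']
    (e : DerivedCategory.Q.obj E ≅ DerivedCategory.Q.obj E') :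
    Nonempty (DerComp.RHom E ≅ DerComp.RHom E') := by
  obtain ⟨a⟩ := nonempty_ltensor_congr e
  exact ⟨((DerComp.RHomAdj E).ofNatIsoLeft a).rightAdjointUniq (DerComp.RHomAdj E')⟩

/-- `- ⊗^L E` has a right adjoint. -/
theorem hasRHom (K : CochainComplex (ModSite.Mod O) ℤ) [ModSite.HasLTensorCx K] : DerComp.HasRHom K := by
  obtain ⟨N, q, hN, -, hq, -⟩ := exists_kflat K
  haveI := hq
  haveI := hasLTensorCx N
  haveI : (ModSite.LTensorCx N).IsLeftAdjoint :=
    haveI := fun J' : Type u => RHomExist.TotColim.preservesColimitsOfShape_of_eq (J := Discrete J') (tT O)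
      (ModSite.tensorCx O) rfl N fun q => inferInstance
    RHomExist.isLeftAdjoint_standard ((ModSite.tensorCx O).flip.obj N)
      (RHomExist.TotColim.shortExact_of_eq (tT O) (ModSite.tensorCx O) rfl N) _ (ltFac hN)
  obtain ⟨a⟩ := nonempty_ltensor_of_quasiIso q
  exact Functor.isLeftAdjoint_of_iso a

/-- K-flat resolutions of complexes bounded above. -/
theorem exists_kflat_le (L : CochainComplex (ModSite.Mod O) ℤ) (b : ℤ) (hb : ∀ n, b < n → IsZero (L.X n)) :
    ∃ (N : CochainComplex (ModSite.Mod O) ℤ) (c : N ⟶ L), IsKFlatFor (tT O) N ∧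
      (∀ n, ModSite.IsFlat (N.X n)) ∧ QuasiIso c ∧ ∀ n, b < n → IsZero (N.X n) :=
  exists_cell_res_le (IsKFlatFor (tT O)) (fun M : ModSite.Mod O => ModSite.IsFlat M) exists_flat_cover
    isKFlatFor_zeroD (fun _ n h => h.shift n)
    (fun _ hS h₁ h₃ => h₁.ext₂ (fun a q => shortExact_map_of_splitting hS a q) h₃)
    isFlat_of_splitting (fun _ _ hc h => isKFlatFor_colimit hc h) (fun _ _ hc h => isFlat_sequential hc h)
    (fun _ h => isFlat_of_isZero h) L b hb

/-- The total complex of complexes bounded above. -/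
theorem isStrictlyLE_tot (A N : CochainComplex (ModSite.Mod O) ℤ) (a b : ℤ) (hA : ∀ n, a < n → IsZero (A.X n))
    (hN : ∀ n, b < n → IsZero (N.X n)) : ∀ n, a + b < n → IsZero ((tot (tT O) A N).X n) := fun n hn => by
  refine (IsZero.iff_id_eq_zero _).2 (mapBifunctor.hom_ext fun p q h => IsZero.eq_of_src ?_ _ _)
  by_cases hp : a < p
  · exact (((tT O).flip.obj (N.X q)).map_isZero (hA p hp) : IsZero (((tT O).obj (A.X p)).obj (N.X q)))
  · exact ((tT O).obj (A.X p)).map_isZero (hN q (by simp at h; omega))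

/-- `Y ⊗^L N ≤ a + b`. -/
theorem isLE_ltensor (N : CochainComplex (ModSite.Mod O) ℤ) (hNk : IsKFlatFor (tT O) N) (b : ℤ)
    (hN : ∀ n, b < n → IsZero (N.X n)) [ModSite.HasLTensorCx N] (Y : D) (a : ℤ) [Y.IsLE a] :
    ((ModSite.LTensorCx N).obj Y).IsLE (a + b) := by
  obtain ⟨A, hA, ⟨eA⟩⟩ := DerivedCategory.exists_iso_Q_obj_of_isLE Y a
  haveI : (tot (tT O) A N).IsStrictlyLE (a + b) := (CochainComplex.isStrictlyLE_iff _ _).2
    (isStrictlyLE_tot A N a b (fun n hn => CochainComplex.isZero_of_isStrictlyLE A a n hn) hN)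
  haveI hQ : (DerivedCategory.Q.obj (tot (tT O) A N)).IsLE (a + b) := inferInstance
  exact ⟨((t₀).le (a + b)).prop_of_iso ((ModSite.LTensorCx N).mapIso eA ≪≫ (ltFac hNk).app A).symm hQ.le⟩

/-- `RHom(C, L)` vanishes in degrees `< r - b` for `C ≤ b` and `L ≥ r`. -/
theorem isGE_rhom (K : CochainComplex (ModSite.Mod O) ℤ) (b : ℤ) [hK : (DerivedCategory.Q.obj K).IsLE b]
    [ModSite.HasLTensorCx K] [DerComp.HasRHom K] (L : D) (r : ℤ) [L.IsGE r] :
    ((DerComp.RHom K).obj L).IsGE (r - b) := by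
  obtain ⟨C', hC', ⟨eC⟩⟩ := DerivedCategory.exists_iso_Q_obj_of_isLE (DerivedCategory.Q.obj K) b
  obtain ⟨N, q, hNk, -, hq, hN⟩ := exists_kflat_le C' b fun n hn => CochainComplex.isZero_of_isStrictlyLE C' b n hn
  haveI := hq
  haveI := hasLTensorCx N
  obtain ⟨a⟩ := nonempty_ltensor_congr (E := K) (E' := N) (eC ≪≫ (asIso (DerivedCategory.Q.map q)).symm)
  refine ((t₀).isGE_iff_orthogonal (r - b - 1) (r - b) (by omega) _).2 fun Y f hY => ?_
  haveI := hY
  haveI := isLE_ltensor N hNk b hN Y (r - b - 1)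
  refine ((DerComp.RHomAdj K).homEquiv Y L).symm.injective ?_
  rw [← cancel_epi ((a.app Y).inv)]
  exact ((t₀).zero _ (r - b - 1 + b) r (by omega)).trans ((t₀).zero _ (r - b - 1 + b) r (by omega)).symm

/-- A distinguished triangle as a degreewise split sequence of K-flat complexes. -/
theorem exists_kflat_split {T : Triangle D} (hT : T ∈ distTriang _) :
    ∃ (S : ShortComplex (CochainComplex (ModSite.Mod O) ℤ))
      (_ : ∀ n, Nonempty ((S.map (HomologicalComplex.eval (ModSite.Mod O) (ComplexShape.up ℤ) n)).Splitting)),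
      (IsKFlatFor (tT O) S.X₁ ∧ IsKFlatFor (tT O) S.X₂ ∧ IsKFlatFor (tT O) S.X₃) ∧
      Nonempty (DerivedCategory.Q.obj S.X₁ ≅ T.obj₁) ∧ Nonempty (DerivedCategory.Q.obj S.X₂ ≅ T.obj₂) ∧
      Nonempty (DerivedCategory.Q.obj S.X₃ ≅ T.obj₃) := by
  have hT' := inv_rot_of_distTriang _ hT
  obtain ⟨B, hB, -, ⟨oL⟩⟩ := exists_kflat_rep T.invRotate.obj₂
  obtain ⟨A, hA, -, ⟨oK⟩⟩ := exists_kflat_rep T.invRotate.obj₁
  obtain ⟨R, s, hs, φ, hφ⟩ := DerivedCategory.right_fac (oK.hom ≫ T.invRotate.mor₁ ≫ oL.inv)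
  haveI := hs
  obtain ⟨R', c, hR', -, hc, -⟩ := exists_kflat R
  haveI := hc
  have comm : DerivedCategory.Q.map (c ≫ φ) ≫ oL.hom =
      (asIso (DerivedCategory.Q.map c) ≪≫ asIso (DerivedCategory.Q.map s) ≪≫ oK).hom ≫ T.invRotate.mor₁ := by
    rw [Functor.map_comp, Category.assoc,
      show DerivedCategory.Q.map φ = DerivedCategory.Q.map s ≫ oK.hom ≫ T.invRotate.mor₁ ≫ oL.inv from by
        rw [hφ, IsIso.hom_inv_id_assoc]]
    simp
  let e := isoTriangleOfIso₁₂ _ _ (DerivedCategory.mappingCone_triangle_distinguished (c ≫ φ)) hT'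
    (asIso (DerivedCategory.Q.map c) ≪≫ asIso (DerivedCategory.Q.map s) ≪≫ oK) oL comm
  let S := CochainComplex.mappingCone.triangleRotateShortComplex (c ≫ φ)
  have hS : ∀ n, Nonempty ((S.map (HomologicalComplex.eval (ModSite.Mod O) (ComplexShape.up ℤ) n)).Splitting) :=
    fun n => ⟨CochainComplex.mappingCone.triangleRotateShortComplexSplitting (c ≫ φ) n⟩
  have h₃ : IsKFlatFor (tT O) S.X₃ := hR'.shift (1 : ℤ)
  refine ⟨S, hS, ⟨hB, IsKFlatFor.ext₂ (fun a q => ((hS q).some.map ((tT O).obj a)).shortExact) hB h₃, h₃⟩,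
    ⟨Triangle.π₂.mapIso e⟩, ⟨Triangle.π₃.mapIso e⟩, ⟨(DerivedCategory.Q.commShiftIso (1 : ℤ)).app R' ≪≫
      (shiftFunctor D (1 : ℤ)).mapIso (Triangle.π₁.mapIso e) ≪≫
        (shiftEquiv D (1 : ℤ)).counitIso.app T.obj₃⟩⟩

/-- The exact sequence of `RHom` in the first variable. -/
theorem exists_rhom_sequence (K : CochainComplex (ModSite.Mod O) ℤ) [ModSite.HasLTensorCx K] [DerComp.HasRHom K]
    {T : Triangle D} (hT : T ∈ distTriang _) (e : DerivedCategory.Q.obj K ≅ T.obj₂)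
    (A B : CochainComplex (ModSite.Mod O) ℤ) [ModSite.HasLTensorCx A] [DerComp.HasRHom A]
    [ModSite.HasLTensorCx B] [DerComp.HasRHom B] (eA : DerivedCategory.Q.obj A ≅ T.obj₁)
    (eB : DerivedCategory.Q.obj B ≅ T.obj₃) (L : D) (i : ℤ) :
    ∃ S : ComposableArrows (ModSite.Mod O) 4, S.Exact ∧
      Nonempty (S.obj' 0 ≅ SiteCmp.HMod ((DerComp.RHom A).obj (L⟦(-1 : ℤ)⟧)) i) ∧
      Nonempty (S.obj' 1 ≅ SiteCmp.HMod ((DerComp.RHom B).obj L) i) ∧
      Nonempty (S.obj' 2 ≅ SiteCmp.HMod ((DerComp.RHom K).obj L) i) ∧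
      Nonempty (S.obj' 3 ≅ SiteCmp.HMod ((DerComp.RHom A).obj L) i) ∧
      Nonempty (S.obj' 4 ≅ SiteCmp.HMod ((DerComp.RHom B).obj (L⟦(1 : ℤ)⟧)) i) := by
  obtain ⟨S, hS, ⟨k₁, k₂, k₃⟩, ⟨e₁⟩, ⟨e₂⟩, ⟨e₃⟩⟩ := exists_kflat_split hT
  haveI := hasLTensorCx S.X₁
  haveI := hasRHom S.X₁
  haveI := hasLTensorCx S.X₂
  haveI := hasRHom S.X₂
  haveI := hasLTensorCx S.X₃
  haveI := hasRHom S.X₃
  obtain ⟨a₁⟩ := nonempty_rhom_congr (E := S.X₁) (E' := A) (e₁ ≪≫ eA.symm)
  obtain ⟨a₂⟩ := nonempty_rhom_congr (E := S.X₂) (E' := K) (e₂ ≪≫ e.symm)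
  obtain ⟨a₃⟩ := nonempty_rhom_congr (E := S.X₃) (E' := B) (e₃ ≪≫ eB.symm)
  obtain ⟨a, b, d, hd⟩ := RHomSeq.exists_nat_triangle (tT O) (ModSite.tensorCx O) rfl S hS
    (ltFac k₁) (ltFac k₂) (ltFac k₃)
  let A₁ := DerComp.RHomAdj S.X₁
  let A₂ := DerComp.RHomAdj S.X₂
  let A₃ := DerComp.RHomAdj S.X₃
  let H := DerivedCategory.homologyFunctor (ModSite.Mod O) i
  let M := L⟦(-1 : ℤ)⟧
  let eL : M⟦(1 : ℤ)⟧ ≅ L := (shiftFunctorCompIsoId D (-1) 1 (by omega)).app L
  let f₁ := H.map (RHomSeq.Rd A₁ A₃ d M)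
  let f₂ := H.map ((conjugateEquiv A₃ A₂ b).app (M⟦(1 : ℤ)⟧))
  let f₃ := H.map ((conjugateEquiv A₂ A₁ a).app (M⟦(1 : ℤ)⟧))
  let f₄ := H.map (RHomSeq.Rd A₁ A₃ d (M⟦(1 : ℤ)⟧))
  have x₁ := RHomSeq.exact_of_hom_exact H _ _ (RHomSeq.Rd_Rg A₁ A₂ A₃ a b d hd M)
    fun _ g hg => RHomSeq.exact₃ A₁ A₂ A₃ a b d hd M g hg
  have x₂ := RHomSeq.exact_of_hom_exact H _ _ (RHomSeq.Rg_Rf A₁ A₂ A₃ a b d hd (M⟦(1 : ℤ)⟧))
    fun _ g hg => RHomSeq.exact₂ A₁ A₂ A₃ a b d hd _ g hg
  have x₃ := RHomSeq.exact_of_hom_exact H _ _ (RHomSeq.Rf_Rd A₁ A₂ A₃ a b d hd (M⟦(1 : ℤ)⟧))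
    fun _ g hg => RHomSeq.exact₁ A₁ A₂ A₃ a b d hd _ g hg
  refine ⟨ComposableArrows.mk₄ f₁ f₂ f₃ f₄, ?_, ⟨H.mapIso (a₁.app M)⟩,
    ⟨H.mapIso ((DerComp.RHom S.X₃).mapIso eL ≪≫ a₃.app L)⟩,
    ⟨H.mapIso ((DerComp.RHom S.X₂).mapIso eL ≪≫ a₂.app L)⟩,
    ⟨H.mapIso ((DerComp.RHom S.X₁).mapIso eL ≪≫ a₁.app L)⟩,
    ⟨H.mapIso ((DerComp.RHom S.X₃).mapIso ((shiftFunctor D (1 : ℤ)).mapIso eL) ≪≫ a₃.app _)⟩⟩
  exact ComposableArrows.exact_of_δ₀ x₁.exact_toComposableArrows
    (ComposableArrows.exact_of_δ₀ x₂.exact_toComposableArrows x₃.exact_toComposableArrows)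

/-- `- ⊗^L O = id`, hence `RHom(O, -) = id`. -/
theorem nonempty_rhom_unit
    [ModSite.HasLTensorCx ((single (ModSite.Mod O) (ComplexShape.up ℤ) 0).obj (ModSite.unit O))]
    [DerComp.HasRHom ((single (ModSite.Mod O) (ComplexShape.up ℤ) 0).obj (ModSite.unit O))] :
    Nonempty (DerComp.RHom ((single (ModSite.Mod O) (ComplexShape.up ℤ) 0).obj (ModSite.unit O)) ≅ 𝟭 D) := by
  let U₀ := (single (ModSite.Mod O) (ComplexShape.up ℤ) 0).obj (ModSite.unit O)
  have hk : IsKFlatFor (tT O) U₀ := isKFlatFor_boundedAbove U₀ 0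
    (fun n hn => isZero_single_obj_X _ _ _ _ (by omega)) fun n => by
      by_cases hn : n = 0
      · subst hn
        exact isFlat_of_iso (singleObjXSelf (ComplexShape.up ℤ) 0 (ModSite.unit O)).symm (isFlat_unit O)
      · exact isFlat_of_isZero (isZero_single_obj_X _ _ _ _ hn)
  obtain ⟨e⟩ := RHomLeft.flip_single_generic (tT O) (ModSite.unit O)
    (SiteTen.tenFlipIso (ModSite.unit O) ≪≫ tenUnitNatIso O) (ModSite.tensorCx O) rfl
  let c : DerivedCategory.Q ⋙ ModSite.LTensorCx U₀ ≅ DerivedCategory.Q ⋙ 𝟭 D :=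
    ltFac hk ≪≫ Functor.isoWhiskerRight e DerivedCategory.Q ≪≫ Functor.leftUnitor _ ≪≫ (Functor.rightUnitor _).symm
  let e' : ModSite.LTensorCx U₀ ≅ 𝟭 D := Localization.liftNatIso DerivedCategory.Q
    (HomologicalComplex.quasiIso (ModSite.Mod O) (ComplexShape.up ℤ)) _ _ _ _ c
  exact ⟨((DerComp.RHomAdj _).ofNatIsoLeft e').rightAdjointUniq Adjunction.id⟩

variable (O) (V : C)

/-- Restriction to a localised site commutes with internal derived hom. -/
theorem nonempty_restr_rhom (K : CochainComplex (ModSite.Mod O) ℤ) [ModSite.HasLTensorCx K] [DerComp.HasRHom K]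
    (K' : CochainComplex (ModSite.Mod (O.over V)) ℤ)
    (eK : K' ≅ ((ModSite.restr O V).mapHomologicalComplex (ComplexShape.up ℤ)).obj K)
    [ModSite.HasLTensorCx K'] [DerComp.HasRHom K'] :
    Nonempty (DerComp.RHom K ⋙ DerCompLib.restrD V ≅ DerCompLib.restrD V ⋙ DerComp.RHom K') := by
  haveI := DerCompLib.extZero_preservesFiniteLimits O V
  haveI : (ModSite.extZero O V).IsLeftAdjoint := (ModSite.extZeroAdj O V).isLeftAdjoint
  let adjD := OpenDerived.adjD (ModSite.extZeroAdj O V)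
  obtain ⟨N, q, hN, -, hq, -⟩ := exists_kflat K
  haveI := hq
  let N' := ((ModSite.restr O V).mapHomologicalComplex (ComplexShape.up ℤ)).obj N
  have hN' : IsKFlatFor (tT (O.over V)) N' := isKFlatFor_restr V hN
  haveI := hasLTensorCx N
  haveI := hasLTensorCx N'
  haveI : QuasiIso (((ModSite.restr O V).mapHomologicalComplex (ComplexShape.up ℤ)).map q) := inferInstance
  obtain ⟨a⟩ := nonempty_ltensor_of_quasiIso q
  obtain ⟨a'⟩ := nonempty_ltensor_of_quasiIso
    (((ModSite.restr O V).mapHomologicalComplex (ComplexShape.up ℤ)).map q ≫ eK.inv)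
  obtain ⟨e⟩ := TotProj.nonempty_derived (tT (O.over V)) (tT O) (ModSite.extZero O V) (ModSite.restr O V)
    (fun A M => projShObj A M) (fun g M => projShObj_natural_left M g)
    (fun A {_ _} g => projShObj_natural_right A g) N _ (ltFac hN') _ (ltFac hN)
  let e' : ModSite.LTensorCx K' ⋙ (ModSite.extZero O V).mapDerivedCategory ≅
      (ModSite.extZero O V).mapDerivedCategory ⋙ ModSite.LTensorCx K :=
    Functor.isoWhiskerRight a'.symm _ ≪≫ e ≪≫ Functor.isoWhiskerLeft _ a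
  exact ⟨((adjD.comp (DerComp.RHomAdj K)).ofNatIsoLeft e'.symm).rightAdjointUniq
    ((DerComp.RHomAdj K').comp adjD)⟩

end Groth.Agent.SiteTen
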